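import Cfsg.Agent.Mrg.Omega.NOThreeL.RA.Pts
import Cfsg.Agent.Mrg.Omega.NOThreeL.RA.FromNat
import Cfsg.Agent.Mrg.Omega.NOThreeL.RBig.Sym
import Cfsg.Agent.Mrg.Omega.NOThreeL.RTreeA

-- merged: Cfsg.Agent.Mrg.Omega.NOThreeL.RA.Final
section

/-!
# NO-3L, R ∩ (A), `k = 1`, `q > 2`, no field automorphisms (#19087): the theorem

* `HypQ.false` : `HypQ`, `|F| > 2`, `C_Z(P) ≠ 1`: contradiction;
* **`false_of_one`** : `Data S`, `[V_P, U_H] ≠ 1`, `V_P / C_V(O²(P))` natural for `SL₂(F)`, `|F| > 2`, `C_Z(P) ≠ 1` and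
  `Z` covers the line of `V_P / C_V(O²(P))`: contradiction.
-/

set_option autoImplicit false
set_option linter.unusedSectionVars false

namespace Cfsg.Agent.Omega.NOThreeL.RA

open Subgroup Cfsg Cfsg.Agent.Omega.MinPar
open Cfsg.Agent.ZN (zc zl o2)
open Cfsg.Agent.Omega.Frame Cfsg.Agent.Omega.FrameNOFF
open Cfsg.Agent.Omega.Node.NO3L Cfsg.Agent.Omega.NOThreeL.Basic
open Cfsg.Agent.Omega.FFThm (NatK)
open Cfsg.Agent.Omega.FrameFF (cv)
open Cfsg.Agent.Omega.NOThreeL.RBig.Pts (Frame)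

universe u

variable {G : Type u} [Group G]

/-- **#19087** -/
theorem HypQ.false [Finite G] {F : Type} [Field F] {e : G → Fin 2 → F} {S : Sylow 2 G} {P H : Subgroup G}
    (D : HypQ e S P H) (hq : 2 < Nat.card F) (hE : zc (S : Subgroup G) ⊓ centralizer (P : Set G) ≠ ⊥) : False := by
  obtain ⟨M, _, Γ, _, _, ρ, π, Q⟩ := D.exists_md
  have : Finite M := Finite.of_surjective (fun x : ↥(zl (S : Subgroup G) H) => π x) fun m => by
    obtain ⟨x, hx, h⟩ := Q.surj m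
    exact ⟨⟨x, hx⟩, h⟩
  rcases (D.frame Q).dichotomy with h | ⟨_, h⟩
  · exact D.many_false Q h
  · exact D.false_of_QP hq hE (D.qp Q (h _ (D.pt_e Q)))

/-- **#19087** over the FF theorem: no exactness, no minimality of `H`. -/
theorem false_of_one [Finite G] {F : Type} [Field F] [Finite F] [CharP F 2] {S : Sylow 2 G} {P H : Subgroup G}
    (hc : IsCharacteristicTwoType G) (D : Data (S : Subgroup G)) (hPH : PairA (S : Subgroup G) P H)
    (hE : zc (S : Subgroup G) ⊓ centralizer (P : Set G) ≠ ⊥) (hq : 2 < Nat.card F)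
    (M : NatK F (S : Subgroup G) P (zl (S : Subgroup G) P) (cv (S : Subgroup G) P) 1)
    (hl : ∀ x, ∃ z ∈ zc (S : Subgroup G), M.e z 0 = ![x, 0]) : False := by
  obtain ⟨H₁, _, h⟩ := exists_hypQ hc hPH.par M D hl hPH.long hPH.ne
  exact h.false hq hE

end Cfsg.Agent.Omega.NOThreeL.RA

end

-- merged: Cfsg.Agent.Mrg.Omega.NOThreeL.RA.NsOne
section

/-!
# NO-3L, R ∩ (A): `RTreeA.NsOne` (#19087)
-/

set_option autoImplicit false

namespace Cfsg.Agent.Omega.NOThreeL.RA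

open Subgroup Cfsg Cfsg.Agent.Omega.MinPar
open Cfsg.Agent.ZN (zc zl o2)
open Cfsg.Agent.Omega.Frame Cfsg.Agent.Omega.FrameNOFF
open Cfsg.Agent.Omega.FrameFF (cv)
open Cfsg.Agent.Omega.NOThreeL.RTreeA (NsOne Splits)

universe u

/-- `V_P` splits over `C_V(O²(P))` if `C_Z(P) = 1`. -/
theorem splits_of_inf_eq_bot {G : Type u} [Group G] [Finite G] (hc : IsCharacteristicTwoType G) {S : Sylow 2 G}
    {P : Subgroup G} (hP : IsParS (S : Subgroup G) P)
    (h0 : zc (S : Subgroup G) ⊓ centralizer (P : Set G) = ⊥) :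
    Splits (S : Subgroup G) P (cv (S : Subgroup G) P) := by
  have h1 : cv (S : Subgroup G) P = ⊥ := NoFF.LinesPlug.inf_oddGen_eq_bot hc S hP.toIsPar h0
  rw [h1]
  exact ⟨zl (S : Subgroup G) P, le_rfl, Cfsg.Agent.MinSimple.VModule.le_normalizer_zl _ _, inf_bot_eq _, le_sup_left⟩

/-- **#19087** -/
theorem nsOne : NsOne.{u} := by
  intro G _ _ S P H F _ _ _ h M hns hl
  exact false_of_one h.ctx.char2 h.data h.pair
    (fun h0 => hns (splits_of_inf_eq_bot h.ctx.char2 h.pair.par h0)) h.big M.toNatK hl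

end Cfsg.Agent.Omega.NOThreeL.RA

end
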