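import Cfsg.Agent.Mrg.Omega.NOThreeL.RA.Base
import Cfsg.Agent.Mrg.Omega.NOThreeL.RA.End
import Cfsg.Agent.Mrg.Omega.NOThreeL.AOne
import Cfsg.Agent.Mrg.Omega.NOThreeL.RA.Shape
import Mathlib
import Cfsg.Agent.Mrg.Omega.NOThreeL.RA.Pair
import Cfsg.Agent.Mrg.Omega.NOThreeL.RBig.Pts

-- merged: Cfsg.Agent.Mrg.Omega.NOThreeL.RA.Inst
section

/-!
# NO-3L, R ∩ (A), `k = 1`, `q > 2` (#19087): the instance of (7)

`HypQ.sit` : `HypQ`, `Z ≤ [U, V] R` and `Z = F E` give `End.Sit`;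
`HypQ.false_of` : with (Q) a contradiction.
-/

set_option autoImplicit false
set_option linter.unusedSectionVars false

namespace Cfsg.Agent.Omega.NOThreeL.RA

open Subgroup Cfsg Cfsg.Agent.Omega.MinPar
open Cfsg.Agent.ZN (zc zl o2)
open Cfsg.Agent.Omega.Frame Cfsg.Agent.Omega.FrameNOFF
open Cfsg.Agent.Omega.Node.NO3L Cfsg.Agent.Omega.NOThreeL.Basic
open Cfsg.Agent.Omega.NoFF.Basic (conj_conj mem_conj conj_le_iff conj_le_centralizer comm_symm comm_mono)
open Cfsg.Agent.MinSimple.VModule (zl_le zc_le_zl le_normalizer_zl zc_le o2_isPGroup le_normalizer_o2 le_o2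
  normalizer_le_normalizer_zc)
open Cfsg.Agent.Omega.NOThreeL.RTools (cm cm_def NN le_NN)
open Cfsg.Agent.Omega.NOThreeL.AOne (Act)
open Cfsg.Agent.Lib.SL2Mat
open Cfsg.Agent.Omega.NatPair (ap ap_mul ap_one ap_inv_ap)
open scoped Pointwise commutatorElement

universe u

variable {G : Type u} [Group G]

namespace HypQ

variable [Finite G] {F : Type} [Field F] {e : G → Fin 2 → F} {S : Sylow 2 G} {P H : Subgroup G} (D : HypQ e S P H)
include D

/-- `H = ⟨C, P' ∈ P*(S), P' ≤ H⟩` -/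
theorem gen : RTransv.Gen (S : Subgroup G) H := by
  obtain ⟨H₁, h1, h2, h3, h4⟩ := RTransv.exists_gen D.long
  by_cases h : H₁ = H
  · rwa [h] at h4
  · exact absurd (by rw [← h3]; exact D.min H₁ h2 h1 h) D.ne

theorem e_oneI : e 1 = 0 := by
  have h := D.mul 1 (one_mem _) 1 (one_mem _)
  rw [mul_one] at h
  exact left_eq_add.1 h

theorem e_invI {v : G} (hv : v ∈ zl (S : Subgroup G) P) : e v⁻¹ = - e v := by
  have h := D.mul v hv v⁻¹ (inv_mem hv)
  rw [mul_inv_cancel, D.e_oneI] at h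
  exact (neg_eq_of_add_eq_zero_right h.symm).symm

theorem conjVI {g v : G} (hg : g ∈ P) (hv : v ∈ zl (S : Subgroup G) P) : g * v * g⁻¹ ∈ zl (S : Subgroup G) P :=
  (mem_normalizer_iff.1 (D.PV hg) v).1 hv

/-- coordinates of `[u, v]` -/
theorem e_commI {b : F} {u v : G} (hu : u ∈ zl (S : Subgroup G) H)
    (h : Act e (zl (S : Subgroup G) P) u (up b)) (hv : v ∈ zl (S : Subgroup G) P) :
    u * v * u⁻¹ * v⁻¹ ∈ zl (S : Subgroup G) P ∧ e (u * v * u⁻¹ * v⁻¹) 0 = b * e v 1 ∧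
      e (u * v * u⁻¹ * v⁻¹) 1 = 0 := by
  have h1 := D.conjVI (D.SP (D.US hu)) hv
  have h2 := D.mul _ h1 _ (inv_mem hv)
  rw [h v hv, D.e_invI hv] at h2
  refine ⟨mul_mem h1 (inv_mem hv), ?_, ?_⟩
  · rw [h2, Pi.add_apply, Pi.neg_apply, AOne.ap_up_0]
    ring
  · rw [h2, Pi.add_apply, Pi.neg_apply, RAOne.ap_up']
    change e v 1 + -e v 1 = 0
    ring

theorem comm_mem_Z {u v : G} (hu : u ∈ zl (S : Subgroup G) H) (hv : v ∈ zl (S : Subgroup G) P) :
    u * v * u⁻¹ * v⁻¹ ∈ zc (S : Subgroup G) := by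
  obtain ⟨b, hb⟩ := D.up1 u hu
  obtain ⟨h1, -, h3⟩ := D.e_commI hu hb hv
  exact (D.line _ h1).1 h3

/-- `[v, U] E = Z` for `v ∉ Z` -/
theorem full {v z : G} (hv : v ∈ zl (S : Subgroup G) P) (hvZ : v ∉ zc (S : Subgroup G))
    (hz : z ∈ zc (S : Subgroup G)) : ∃ u ∈ zl (S : Subgroup G) H,
      u * v * u⁻¹ * v⁻¹ * z⁻¹ ∈ zc (S : Subgroup G) ⊓ centralizer (P : Set G) := by
  have h0 : e v 1 ≠ 0 := fun h => hvZ ((D.line v hv).1 h)
  obtain ⟨u, hu, hb⟩ := D.up2 (e z 0 * (e v 1)⁻¹)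
  obtain ⟨h1, h2, h3⟩ := D.e_commI hu hb hv
  refine ⟨u, hu, (D.ker _ (mul_mem h1 (inv_mem (D.ZV hz)))).1 ?_⟩
  have h4 := D.mul _ h1 _ (inv_mem (D.ZV hz))
  rw [h4, D.e_invI (D.ZV hz)]
  have h5 := (D.line z (D.ZV hz)).2 hz
  funext i
  fin_cases i
  · change e (u * v * u⁻¹ * v⁻¹) 0 + -e z 0 = 0
    rw [h2, inv_mul_cancel_right₀ h0]
    ring
  · change e (u * v * u⁻¹ * v⁻¹) 1 + -e z 1 = 0
    rw [h3, h5]
    ring

/-- `V = Z Z^r`, `Z ∩ Z^r = E` -/
theorem rho : ∃ r ∈ P, zl (S : Subgroup G) P ≤ zc (S : Subgroup G) ⊔ MulAut.conj r • zc (S : Subgroup G) ∧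
    zc (S : Subgroup G) ⊓ MulAut.conj r • zc (S : Subgroup G) ≤ centralizer (P : Set G) := by
  obtain ⟨r, hr, hA⟩ := D.lift (lo 1)
  have key : ∀ y ∈ zl (S : Subgroup G) P, e (r * y * r⁻¹) = ![e y 0, e y 0 + e y 1] := fun y hy => by
    rw [hA y hy, RAOne.ap_lo', one_mul]
  refine ⟨r, hr, fun v hv => ?_, fun v hv => ?_⟩
  · obtain ⟨y, hy, hey⟩ := D.surj ![e v 1, 0]
    have hyZ : y ∈ zc (S : Subgroup G) := (D.line y hy).1 (by rw [hey]; rfl)
    have h1 := D.conjVI hr hy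
    have h2 : v * (r * y * r⁻¹)⁻¹ ∈ zc (S : Subgroup G) := by
      refine (D.line _ (mul_mem hv (inv_mem h1))).1 ?_
      rw [D.mul _ hv _ (inv_mem h1), D.e_invI h1, key y hy, hey]
      change e v 1 + -(e v 1 + 0) = 0
      ring
    have e1 : v = v * (r * y * r⁻¹)⁻¹ * (r * y * r⁻¹) := by group
    rw [e1]
    refine mul_mem (mem_sup_left h2) (mem_sup_right ?_)
    rw [mem_conj]
    simpa [mul_assoc] using hyZ
  · obtain ⟨h1, h2⟩ := mem_inf.1 hv
    rw [mem_conj] at h2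
    have h3 := key _ (D.ZV h2)
    have e1 : r * (r⁻¹ * v * r) * r⁻¹ = v := by group
    rw [e1] at h3
    have h4 := (D.line _ (D.ZV h2)).2 h2
    have h5 := (D.line _ (D.ZV h1)).2 h1
    have h6 : e v 1 = e (r⁻¹ * v * r) 0 + e (r⁻¹ * v * r) 1 := by rw [h3]; rfl
    have h7 : e v 0 = e (r⁻¹ * v * r) 0 := by rw [h3]; rfl
    rw [h4, add_zero, h5] at h6
    refine (mem_inf.1 ((D.ker v (D.ZV h1)).1 ?_)).2
    funext i
    fin_cases i
    · change e v 0 = 0
      rw [h7, ← h6]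
    · exact h5

theorem RV : Rr (S : Subgroup G) P H ≤ centralizer (zl (S : Subgroup G) P : Set G) :=
  inf_le_right.trans (centralizer_le (le_NN _ _ _))

/-- **The instance of (7).** -/
theorem sit (hZR : zc (S : Subgroup G) ≤ ⁅zl (S : Subgroup G) H, zl (S : Subgroup G) P⁆ ⊔ Rr (S : Subgroup G) P H)
    (hFE : zc (S : Subgroup G) ≤ Fc (S : Subgroup G) H ⊔ (zc (S : Subgroup G) ⊓ centralizer (P : Set G))) :
    End.Sit (S : Subgroup G) P H (Rr (S : Subgroup G) P H) where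
  par := D.par
  long := D.long
  ne := fun h => D.ne (comm_symm h)
  gen := D.gen
  RV := D.RV
  HR := D.HR
  UV := fun _ hu _ hv => D.comm_mem_Z hu hv
  ZR := hZR
  full := fun _ hv hvZ _ hz => D.full hv hvZ hz
  FE := hFE
  rho := D.rho

/-- **(7)**: `Z ≤ [U, V] R`, `Z = F E` and (Q) give a contradiction. -/
theorem false_of (hZR : zc (S : Subgroup G) ≤ ⁅zl (S : Subgroup G) H, zl (S : Subgroup G) P⁆ ⊔ Rr (S : Subgroup G) P H)
    (hFE : zc (S : Subgroup G) ≤ Fc (S : Subgroup G) H ⊔ (zc (S : Subgroup G) ⊓ centralizer (P : Set G)))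
    (hQ : End.QP (S : Subgroup G) P H) : False :=
  (D.sit hZR hFE).false D.hc D.data hQ

end HypQ

end Cfsg.Agent.Omega.NOThreeL.RA

end

-- merged: Cfsg.Agent.Mrg.Omega.NOThreeL.RA.Glue
section

section


/-!
# NO-3L, R ∩ (A), `k = 1`, `q > 2` (#19087): (0), (1), (2), (7) glued

* `HypQ.ZR` : `Z ≤ [U, V] R`;
* `HypQ.false_of_QP` : `HypQ`, `|F| > 2`, `C_Z(P) ≠ 1` and (Q) give a contradiction.
-/

set_option autoImplicit false
set_option linter.unusedSectionVars false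

namespace Cfsg.Agent.Omega.NOThreeL.RA

open Subgroup Cfsg Cfsg.Agent.Omega.MinPar
open Cfsg.Agent.ZN (zc zl o2)
open Cfsg.Agent.Omega.Frame Cfsg.Agent.Omega.FrameNOFF
open Cfsg.Agent.Omega.Node.NO3L Cfsg.Agent.Omega.NOThreeL.Basic
open Cfsg.Agent.Omega.NOThreeL.RTools (cm cm_def NN le_NN)
open Cfsg.Agent.Omega.NOThreeL.AOne (Act)
open Cfsg.Agent.Lib.SL2Mat
open Cfsg.Agent.Omega.NatPair (ap ap_mul ap_one ap_inv_ap)
open scoped Pointwise commutatorElement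

universe u

variable {G : Type u} [Group G]

namespace HypQ

variable [Finite G] {F : Type} [Field F] {e : G → Fin 2 → F} {S : Sylow 2 G} {P H : Subgroup G} (D : HypQ e S P H)
include D

/-- `Z ≤ [U, V] R` -/
theorem ZR : zc (S : Subgroup G) ≤
    ⁅zl (S : Subgroup G) H, zl (S : Subgroup G) P⁆ ⊔ Rr (S : Subgroup G) P H := by
  intro w hw
  obtain ⟨u, hu, hb⟩ := D.up2 1
  have huY : u ∉ MulAut.conj (1 : G) • Yy (S : Subgroup G) P H := by
    rw [map_one, one_smul]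
    intro h
    obtain ⟨v, hv, hev⟩ := D.surj ![0, 1]
    have h1 := D.e_cm hv (D.UP hu) hb
    have h2 : cm v u = 1 := by
      rw [cm_eq_one]
      exact mem_centralizer_iff.1 (mem_inf.1 h).2 v hv
    rw [h2, D.e_one, hev] at h1
    have h3 := congrFun h1 0
    change (0 : F) = 1 * 1 at h3
    rw [one_mul] at h3
    exact zero_ne_one h3
  obtain ⟨a, ha, haw⟩ := D.exists_cm (one_mem H) hu huY (w := w) (by rw [map_one, one_smul]; exact hw)
  rw [map_one, one_smul] at ha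
  have h1 : cm a u ∈ ⁅zl (S : Subgroup G) H, zl (S : Subgroup G) P⁆ := by
    rw [commutator_comm]
    exact commutator_mem_commutator ha hu
  have h2 : w = (cm a u)⁻¹ * (cm a u * w) := by group
  rw [h2]
  have h3 : cm a u * w ∈ Rr (S : Subgroup G) P H := by
    rw [← D.R_inf_Z] at haw
    exact (mem_inf.1 haw).1
  exact mul_mem (mem_sup_left (inv_mem h1)) (mem_sup_right h3)

/-- **#19087 modulo (Q)**. -/
theorem false_of_QP (hq : 2 < Nat.card F) (hE : zc (S : Subgroup G) ⊓ centralizer (P : Set G) ≠ ⊥)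
    (hQ : End.QP (S : Subgroup G) P H) : False :=
  D.false_of D.ZR (D.shape hq hE).2 hQ

end HypQ

end Cfsg.Agent.Omega.NOThreeL.RA

end

section


/-!
# The module `U / R` of a group `H` normalising the abelian group `U` and `R ≤ U`

`Md U R H ρ π` : `M` is the additive group `U / R` (`π : G → M` the projection, used on `U`), `ρ : H → Γ` the action by
conjugation, `Γ` acts faithfully on `M`.

* `exists_md` : existence.
* `img π A` : the image of `A ≤ U`.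
-/

set_option autoImplicit false

namespace Cfsg.Agent.Omega.NOThreeL.RA

open Subgroup

universe u

variable {G : Type u} [Group G]

/-- `M = U / R`, `H` acts on it through `ρ`. -/
structure Md (U R H : Subgroup G) {M Γ : Type*} [AddCommGroup M] [Group Γ] [DistribMulAction Γ M] (ρ : ↥H →* Γ)
    (π : G → M) : Prop where
  le : R ≤ U
  hU : ∀ g ∈ H, ∀ x ∈ U, g * x * g⁻¹ ∈ U
  mul : ∀ x ∈ U, ∀ y ∈ U, π (x * y) = π x + π y
  ker : ∀ x ∈ U, π x = 0 ↔ x ∈ R
  surj : ∀ m, ∃ x ∈ U, π x = m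
  act : ∀ g : ↥H, ∀ x ∈ U, ρ g • π x = π ((g : G) * x * (g : G)⁻¹)
  faith : ∀ γ : Γ, (∀ m : M, γ • m = m) → γ = 1

theorem exists_md {U R H : Subgroup G} (hRU : R ≤ U) (hab : ∀ x ∈ U, ∀ y ∈ U, x * y = y * x)
    (hHU : ∀ g ∈ H, ∀ x ∈ U, g * x * g⁻¹ ∈ U) (hHR : ∀ g ∈ H, ∀ x ∈ R, g * x * g⁻¹ ∈ R) :
    ∃ (M : Type u) (_ : AddCommGroup M) (Γ : Type u) (_ : Group Γ) (_ : DistribMulAction Γ M) (ρ : ↥H →* Γ)
      (π : G → M), Md U R H ρ π := by
  classical
  have hn : (R.subgroupOf U).Normal := by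
    refine ⟨fun n hn g => ?_⟩
    rw [mem_subgroupOf] at hn ⊢
    have h2 : ((g * n * g⁻¹ : U) : G) = n := by
      change (g : G) * n * (g : G)⁻¹ = n
      rw [hab g g.2 n n.2, mul_inv_cancel_right]
    rw [h2]
    exact hn
  let Qt : Type u := ↥U ⧸ R.subgroupOf U
  let pr : ↥U →* Qt := QuotientGroup.mk' _
  have prs : Function.Surjective pr := QuotientGroup.mk'_surjective _
  let iC : CommGroup Qt :=
    { (inferInstance : Group Qt) with
      mul_comm := by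
        intro x y
        obtain ⟨x, rfl⟩ := prs x
        obtain ⟨y, rfl⟩ := prs y
        have h1 : x * y = y * x := Subtype.ext (hab x x.2 y y.2)
        change pr x * pr y = pr y * pr x
        rw [← map_mul, ← map_mul, h1] }
  let M : Type u := Additive Qt
  let cj : ↥H → (↥U →* ↥U) := fun g =>
    { toFun := fun x => ⟨g * x * (g : G)⁻¹, hHU g g.2 x x.2⟩
      map_one' := by ext; simp
      map_mul' := by intro x y; ext; simp }
  have cjN : ∀ g, R.subgroupOf U ≤ (R.subgroupOf U).comap (cj g) := by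
    intro g x hx
    rw [mem_comap, mem_subgroupOf]
    rw [mem_subgroupOf] at hx
    exact hHR g g.2 _ hx
  let cq : ↥H → (Qt →* Qt) := fun g => QuotientGroup.map _ _ (cj g) (cjN g)
  let ρ₀ : ↥H →* AddMonoid.End M :=
    { toFun := fun g => MonoidHom.toAdditive (cq g)
      map_one' := by
        ext x
        obtain ⟨x, rfl⟩ := Additive.ofMul.surjective x
        obtain ⟨x, rfl⟩ := prs x
        change Additive.ofMul (pr (cj 1 x)) = Additive.ofMul (pr x)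
        congr 2
        ext
        change (1 : G) * x * (1 : G)⁻¹ = x
        group
      map_mul' := by
        intro g g'
        ext x
        obtain ⟨x, rfl⟩ := Additive.ofMul.surjective x
        obtain ⟨x, rfl⟩ := prs x
        change Additive.ofMul (pr (cj (g * g') x)) = Additive.ofMul (pr (cj g (cj g' x)))
        congr 2
        ext
        change ((g : G) * g') * x * ((g : G) * g')⁻¹ = g * (g' * x * (g' : G)⁻¹) * (g : G)⁻¹
        group }
  refine ⟨M, inferInstance, (AddMonoid.End M)ˣ, inferInstance, inferInstance, ρ₀.toHomUnits,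
    fun x => if hx : x ∈ U then Additive.ofMul (pr ⟨x, hx⟩) else 0, ⟨hRU, hHU, ?_, ?_, ?_, ?_, ?_⟩⟩
  · intro x hx y hy
    rw [dif_pos hx, dif_pos hy, dif_pos (mul_mem hx hy)]
    rfl
  · intro x hx
    rw [dif_pos hx]
    change Additive.ofMul (pr ⟨x, hx⟩) = Additive.ofMul 1 ↔ _
    rw [Additive.ofMul.injective.eq_iff]
    change ((⟨x, hx⟩ : ↥U) : Qt) = 1 ↔ _
    rw [QuotientGroup.eq_one_iff, mem_subgroupOf]
  · intro m
    obtain ⟨x, rfl⟩ := Additive.ofMul.surjective m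
    obtain ⟨x, rfl⟩ := prs x
    exact ⟨x, x.2, by rw [dif_pos x.2]⟩
  · intro g x hx
    rw [dif_pos hx, dif_pos (hHU g g.2 x hx)]
    rfl
  · intro γ h
    ext m
    exact h m

section

variable {U R H : Subgroup G} {M Γ : Type*} [AddCommGroup M] [Group Γ] [DistribMulAction Γ M] {ρ : ↥H →* Γ} {π : G → M}

/-- the image of `A ≤ U` in `M` -/
def img (π : G → M) (A : Subgroup G) : AddSubgroup M := AddSubgroup.closure (π '' (A : Set G))

namespace Md

variable (Q : Md U R H ρ π)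
include Q

theorem one : π 1 = 0 := (Q.ker 1 (one_mem U)).2 (one_mem R)

theorem neg {x : G} (hx : x ∈ U) : π x⁻¹ = - π x := by
  have h := Q.mul _ (inv_mem hx) _ hx
  rw [inv_mul_cancel, Q.one] at h
  exact eq_neg_of_add_eq_zero_left h.symm

theorem eq_iff {x y : G} (hx : x ∈ U) (hy : y ∈ U) : π x = π y ↔ x * y⁻¹ ∈ R := by
  rw [← Q.ker _ (mul_mem hx (inv_mem hy)), Q.mul _ hx _ (inv_mem hy), Q.neg hy, ← sub_eq_add_neg, sub_eq_zero]

theorem mul_R {x r : G} (hx : x ∈ U) (hr : r ∈ R) : π (x * r) = π x := by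
  rw [Q.mul x hx r (Q.le hr), (Q.ker r (Q.le hr)).2 hr, add_zero]

theorem mem_img {A : Subgroup G} (hA : A ≤ U) {m : M} : m ∈ img π A ↔ ∃ a ∈ A, π a = m := by
  constructor
  · intro h
    refine AddSubgroup.closure_induction (fun x hx => ?_) ⟨1, one_mem _, Q.one⟩ (fun x y _ _ hx hy => ?_)
      (fun x _ hx => ?_) h
    · obtain ⟨a, ha, rfl⟩ := hx
      exact ⟨a, ha, rfl⟩
    · obtain ⟨a, ha, rfl⟩ := hx
      obtain ⟨b, hb, rfl⟩ := hy
      exact ⟨a * b, mul_mem ha hb, Q.mul a (hA ha) b (hA hb)⟩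
    · obtain ⟨a, ha, rfl⟩ := hx
      exact ⟨a⁻¹, inv_mem ha, Q.neg (hA ha)⟩
  · rintro ⟨a, ha, rfl⟩
    exact AddSubgroup.subset_closure ⟨a, ha, rfl⟩

omit Q in
theorem pi_mem {A : Subgroup G} {a : G} (ha : a ∈ A) : π a ∈ img π A := AddSubgroup.subset_closure ⟨a, ha, rfl⟩

/-- `π x ∈ img A` iff `x ∈ A R`. -/
theorem pi_mem_iff {A : Subgroup G} (hA : A ≤ U) {x : G} (hx : x ∈ U) :
    π x ∈ img π A ↔ ∃ a ∈ A, ∃ r ∈ R, x = r * a := by
  rw [Q.mem_img hA]
  constructor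
  · rintro ⟨a, ha, h⟩
    have h1 := (Q.eq_iff hx (hA ha)).1 h.symm
    exact ⟨a, ha, _, h1, by group⟩
  · rintro ⟨a, ha, r, hr, rfl⟩
    refine ⟨a, ha, ?_⟩
    rw [Q.mul r (Q.le hr) a (hA ha), (Q.ker r (Q.le hr)).2 hr, zero_add]

/-- the action on a class -/
theorem smul {g : G} (hg : g ∈ H) {x : G} (hx : x ∈ U) : ρ ⟨g, hg⟩ • π x = π (g * x * g⁻¹) := Q.act ⟨g, hg⟩ x hx

theorem smul_eq_self {g : G} (hg : g ∈ H) {x : G} (hx : x ∈ U) :
    ρ ⟨g, hg⟩ • π x = π x ↔ g * x * g⁻¹ * x⁻¹ ∈ R := by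
  rw [Q.smul hg hx, Q.eq_iff (Q.hU g hg x hx) hx]

theorem rho_eq_one {g : G} (hg : g ∈ H) : ρ ⟨g, hg⟩ = 1 ↔ ∀ x ∈ U, g * x * g⁻¹ * x⁻¹ ∈ R := by
  constructor
  · intro h x hx
    rw [← Q.smul_eq_self hg hx, h, one_smul]
  · intro h
    refine Q.faith _ fun m => ?_
    obtain ⟨x, hx, rfl⟩ := Q.surj m
    exact (Q.smul_eq_self hg hx).2 (h x hx)

end Md

end

end Cfsg.Agent.Omega.NOThreeL.RA

end

end

-- merged: Cfsg.Agent.Mrg.Omega.NOThreeL.RA.Pts
section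

section


/-!
# NO-3L, `R ∩ (A)`, `k = 1`, `q > 2` (#19087): the points of `U / R`, (3)

`Q : Md U R H ρ π` (`M = U / R`).  Points: `Pt π S H = {img Z^h}`; `VG π S P H p` = the group generated by the lines
`V^h`, `Z^h R = p`; `VV ρ π S P p` its image in `Γ`.

* `HypQ.line_of_mv`, `HypQ.opp_of_mv` : the group meaning of `Mv (VV ρ π S P) p r`;
* `HypQ.bij_group` : (3)(b);
* **`HypQ.frame`** : `Frame ρ.range (Pt π S H) (VV ρ π S P)`.
-/

set_option autoImplicit false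
set_option linter.unusedSectionVars false

namespace Cfsg.Agent.Omega.NOThreeL.RA

open Subgroup Cfsg Cfsg.Agent.Omega.MinPar
open Cfsg.Agent.ZN (zc zl o2)
open Cfsg.Agent.Omega.Frame Cfsg.Agent.Omega.FrameNOFF
open Cfsg.Agent.Omega.Node.NO3L Cfsg.Agent.Omega.NOThreeL.Basic
open Cfsg.Agent.Omega.NoFF.Basic (conj_conj mem_conj conj_le_iff conj_le_centralizer comm_symm comm_mono)
open Cfsg.Agent.Omega.NOThreeL.Pair (conj_eq_of_mem conj_le_normalizer zl_abel)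
open Cfsg.Agent.MinSimple.VModule (zl_le zc_le_zl le_normalizer_zl zc_le o2_isPGroup le_normalizer_o2 le_o2
  normalizer_le_normalizer_zc)
open Cfsg.Agent.Omega.NOThreeL (mem_normalizer_of_conj_eq le_normalizer_of mem_sup_of_comm)
open Cfsg.Agent.Omega.NOThreeL.RTools (cm cm_def cm_mul NN conj_mem_of_mem conj_le_NN le_NN NN_le le_normalizer_NN
  le_sup_inf isLong)
open Cfsg.Agent.Omega.NOThreeL.RBig.Pts (Mv Frame)
open scoped Pointwise commutatorElement

universe u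

variable {G : Type u} [Group G]

section defs

variable {H : Subgroup G} {M Γ : Type*} [AddCommGroup M] [Group Γ] [DistribMulAction Γ M]

/-- the points -/
def Pt (π : G → M) (S H : Subgroup G) : Set (AddSubgroup M) := {p | ∃ h ∈ H, img π (MulAut.conj h • zc S) = p}

/-- the group generated by the lines over `p` -/
def VG (π : G → M) (S P H : Subgroup G) (p : AddSubgroup M) : Subgroup G :=
  ⨆ (h : G) (_ : h ∈ H ∧ img π (MulAut.conj h • zc S) = p), MulAut.conj h • zl S P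

/-- its image -/
def VV (ρ : ↥H →* Γ) (π : G → M) (S P : Subgroup G) (p : AddSubgroup M) : Subgroup Γ :=
  ((VG π S P H p).subgroupOf H).map ρ

theorem mem_Pt {π : G → M} {S H : Subgroup G} {h : G} (hh : h ∈ H) : img π (MulAut.conj h • zc S) ∈ Pt π S H :=
  ⟨h, hh, rfl⟩

theorem conj_le_VG {π : G → M} {S P H : Subgroup G} {h : G} (hh : h ∈ H) :
    MulAut.conj h • zl S P ≤ VG π S P H (img π (MulAut.conj h • zc S)) :=
  le_iSup₂_of_le h ⟨hh, rfl⟩ le_rfl

theorem VG_le {π : G → M} {S P H X : Subgroup G} {p : AddSubgroup M}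
    (h : ∀ k ∈ H, img π (MulAut.conj k • zc S) = p → MulAut.conj k • zl S P ≤ X) : VG π S P H p ≤ X :=
  iSup₂_le fun k hk => h k hk.1 hk.2

end defs

/-- a `2`-element with the same image -/
theorem exists_two {Γ : Type*} [Group Γ] [Finite G] {H K : Subgroup G} (ρ : ↥H →* Γ) {w : G} (hw : w ∈ K) (hwH : w ∈ H)
    (h : ρ ⟨w, hwH⟩ * ρ ⟨w, hwH⟩ = 1) :
    ∃ w', ∃ hwH' : w' ∈ H, w' ∈ K ∧ IsPGroup 2 (zpowers w') ∧ ρ ⟨w', hwH'⟩ = ρ ⟨w, hwH⟩ := by
  obtain ⟨a, m, hm, ho⟩ := Nat.exists_eq_two_pow_mul_odd (orderOf_pos w).ne'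
  refine ⟨w ^ m, pow_mem hwH m, pow_mem hw m, ?_, ?_⟩
  · have h1 : (w ^ m) ^ 2 ^ a = 1 := by
      rw [← pow_mul, mul_comm, ← ho, pow_orderOf_eq_one]
    obtain ⟨j, -, hj⟩ := (Nat.dvd_prime_pow Nat.prime_two).1 (orderOf_dvd_of_pow_eq_one h1)
    exact IsPGroup.of_card (n := j) (by rw [Nat.card_zpowers, hj])
  · have h1 : (⟨w ^ m, pow_mem hwH m⟩ : ↥H) = ⟨w, hwH⟩ ^ m := rfl
    rw [h1, map_pow]
    obtain ⟨j, rfl⟩ := hm
    rw [pow_succ, pow_mul, pow_two, h, one_pow, one_mul]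

namespace HypQ

variable [Finite G] {F : Type} [Field F] {e : G → Fin 2 → F} {S : Sylow 2 G} {P H : Subgroup G} (D : HypQ e S P H)
  {M Γ : Type*} [AddCommGroup M] [Group Γ] [DistribMulAction Γ M] {ρ : ↥H →* Γ} {π : G → M}
include D

/-- `M = U / R` exists -/
theorem exists_md : ∃ (M : Type u) (_ : AddCommGroup M) (Γ : Type u) (_ : Group Γ) (_ : DistribMulAction Γ M)
    (ρ : ↥H →* Γ) (π : G → M), Md (zl (S : Subgroup G) H) (Rr (S : Subgroup G) P H) H ρ π :=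
  RA.exists_md D.RU (fun _ hx _ hy => D.commU hx hy) (fun _ hg _ hx => conj_mem_of_mem (D.HU hg) hx)
    (fun _ hg _ hx => conj_mem_of_mem (D.HR hg) hx)

theorem VG_le_NN (p : AddSubgroup M) : VG π (S : Subgroup G) P H p ≤ NN (S : Subgroup G) P H :=
  VG_le fun _ hk _ => conj_le_NN hk

theorem VG_le_H (p : AddSubgroup M) : VG π (S : Subgroup G) P H p ≤ H := (D.VG_le_NN p).trans D.NN_le_H

omit [Finite G] D in
theorem mem_VV {p : AddSubgroup M} {v : Γ} :
    v ∈ VV ρ π (S : Subgroup G) P p ↔ ∃ w, ∃ hw : w ∈ H, w ∈ VG π (S : Subgroup G) P H p ∧ ρ ⟨w, hw⟩ = v := by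
  constructor
  · rintro ⟨⟨w, hw⟩, h1, rfl⟩
    exact ⟨w, hw, h1, rfl⟩
  · rintro ⟨w, hw, h1, rfl⟩
    exact ⟨⟨w, hw⟩, h1, rfl⟩

/-- to be in `L` for the whole `VV p` -/
theorem VV_le {p : AddSubgroup M} {L : Subgroup Γ} (h : ∀ k ∈ H, img π (MulAut.conj k • zc (S : Subgroup G)) = p →
    ∀ a ∈ MulAut.conj k • zl (S : Subgroup G) P, ∀ ha : a ∈ H, ρ ⟨a, ha⟩ ∈ L) : VV ρ π (S : Subgroup G) P p ≤ L := by
  have h1 : VG π (S : Subgroup G) P H p ≤ (L.comap ρ).map H.subtype := by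
    refine VG_le fun k hk hp a ha => ?_
    have haH := D.conjV_le hk ha
    exact ⟨⟨a, haH⟩, h k hk hp a ha haH, rfl⟩
  intro v hv
  obtain ⟨w, hw, h2, rfl⟩ := mem_VV.1 hv
  obtain ⟨⟨w', hw'⟩, h3, h4⟩ := h1 h2
  have h5 : w' = w := h4
  subst h5
  exact h3

variable (Q : Md (zl (S : Subgroup G) H) (Rr (S : Subgroup G) P H) H ρ π)
include Q

theorem two_M (m : M) : m + m = 0 := by
  obtain ⟨x, hx, rfl⟩ := Q.surj m
  rw [← Q.mul x hx x hx, D.sqU hx, Q.one]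

/-- `g • img A = img A^g` -/
theorem smul_img {g : G} (hg : g ∈ H) {A : Subgroup G} (hA : A ≤ zl (S : Subgroup G) H) :
    ρ ⟨g, hg⟩ • img π A = img π (MulAut.conj g • A) := by
  have hA' : MulAut.conj g • A ≤ zl (S : Subgroup G) H := by
    have h1 := (conj_le_iff (g := g)).2 hA
    rwa [D.conjU hg] at h1
  ext m
  rw [RBig.Pts.mem_smul_iff, Q.mem_img hA']
  constructor
  · rintro ⟨x, hx, rfl⟩
    obtain ⟨a, ha, rfl⟩ := (Q.mem_img hA).1 hx
    refine ⟨g * a * g⁻¹, ?_, (Q.smul hg (hA ha)).symm⟩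
    rw [mem_conj]
    simpa [mul_assoc] using ha
  · rintro ⟨a, ha, rfl⟩
    rw [mem_conj] at ha
    refine ⟨π (g⁻¹ * a * g), Md.pi_mem ha, ?_⟩
    rw [Q.smul hg (hA ha)]
    congr 1
    group

theorem smul_pt {g h : G} (hg : g ∈ H) (hh : h ∈ H) :
    ρ ⟨g, hg⟩ • img π (MulAut.conj h • zc (S : Subgroup G)) = img π (MulAut.conj (g * h) • zc (S : Subgroup G)) := by
  rw [D.smul_img Q hg (D.conjZ_le hh), conj_conj]

/-- `[w, x] ∈ R` -/
theorem smul_eq_iff {g : G} (hg : g ∈ H) {x : G} (hx : x ∈ zl (S : Subgroup G) H) :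
    ρ ⟨g, hg⟩ • π x = π x ↔ cm g x ∈ Rr (S : Subgroup G) P H := by
  rw [Q.smul_eq_self hg hx, cm_def]

theorem cm_mem_U {g x : G} (hg : g ∈ H) (hx : x ∈ zl (S : Subgroup G) H) : cm g x ∈ zl (S : Subgroup G) H := by
  have e1 : cm g x = (g * x * g⁻¹) * x⁻¹ := by rw [cm_def]
  rw [e1]
  exact mul_mem (conj_mem_of_mem (D.HU hg) hx) (inv_mem hx)

theorem smul_add {g x : G} (hg : g ∈ H) (hx : x ∈ zl (S : Subgroup G) H) :
    ρ ⟨g, hg⟩ • π x + π x = π (cm g x) := by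
  have h1 : g * x * g⁻¹ = cm g x * x := (cm_mul g x).symm
  rw [Q.smul hg hx, h1, Q.mul _ (D.cm_mem_U Q hg hx) x hx, add_assoc, D.two_M Q, add_zero]

/-- `π (x h)` for elements of `Z^h` -/
theorem pi_eq_zero {h x : G} (hh : h ∈ H) (hx : x ∈ MulAut.conj h • zc (S : Subgroup G)) :
    π x = 0 ↔ x ∈ Fc (S : Subgroup G) H := by
  rw [Q.ker x (D.conjZ_le hh hx)]
  constructor
  · intro h1
    exact D.R_inf hh h1 hx
  · intro h1
    rw [← D.R_inf_Z] at h1
    exact (mem_inf.1 h1).1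

/-- the elements of `VV p` -/
theorem VV_prop {p : AddSubgroup M} {v : Γ} (hv : v ∈ VV ρ π (S : Subgroup G) P p) :
    (∀ m : M, v • m + m ∈ p) ∧ ∀ x ∈ p, v • x = x := by
  let L : Subgroup Γ :=
    { carrier := {v | (∀ m : M, v • m + m ∈ p) ∧ ∀ x ∈ p, v • x = x}
      mul_mem' := by
        rintro a b ⟨h1, h2⟩ ⟨h3, h4⟩
        refine ⟨fun m => ?_, fun x hx => by rw [mul_smul, h4 x hx, h2 x hx]⟩
        have h5 := p.add_mem (h1 (b • m)) (h3 m)
        have e1 : a • b • m + b • m + (b • m + m) = (a * b) • m + m := by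
          rw [mul_smul]
          calc a • b • m + b • m + (b • m + m) = a • b • m + (b • m + b • m) + m := by abel
            _ = a • b • m + m := by rw [D.two_M Q, add_zero]
        rwa [e1] at h5
      one_mem' := ⟨fun m => by rw [one_smul, D.two_M Q]; exact p.zero_mem, fun x _ => one_smul _ x⟩
      inv_mem' := by
        rintro a ⟨h1, h2⟩
        refine ⟨fun m => ?_, fun x hx => by rw [inv_smul_eq_iff, h2 x hx]⟩
        have h3 := h1 (a⁻¹ • m)
        rwa [smul_inv_smul, add_comm] at h3 }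
  refine D.VV_le (L := L) ?_ hv
  rintro k hk rfl a ha haH
  refine ⟨fun m => ?_, fun x hx => ?_⟩
  · obtain ⟨u, hu, rfl⟩ := Q.surj m
    rw [D.smul_add Q haH hu]
    exact Md.pi_mem (D.cm_conj hk ha hu)
  · obtain ⟨z, hz, rfl⟩ := (Q.mem_img (D.conjZ_le hk)).1 hx
    rw [D.smul_eq_iff Q haH (D.conjZ_le hk hz)]
    have h1 : cm a z = 1 := by
      rw [cm_eq_one]
      have h2 := conjZ_le_V (P := P) k hz
      rw [mem_conj] at ha h2
      have h3 := D.commV ha h2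
      calc a * z = k * ((k⁻¹ * a * k) * (k⁻¹ * z * k)) * k⁻¹ := by group
        _ = k * ((k⁻¹ * z * k) * (k⁻¹ * a * k)) * k⁻¹ := by rw [h3]
        _ = z * a := by group
    rw [h1]
    exact one_mem _

theorem VV_sq {p : AddSubgroup M} {v : Γ} (hv : v ∈ VV ρ π (S : Subgroup G) P p) : v * v = 1 := by
  refine Q.faith _ fun m => ?_
  obtain ⟨h1, h2⟩ := D.VV_prop Q hv
  have h3 := h2 _ (h1 m)
  rw [_root_.smul_add] at h3
  rw [mul_smul]
  have h4 := congrArg (fun t => t + v • m) h3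
  simp only [add_assoc] at h4
  rw [D.two_M Q, add_zero, add_comm m (v • m), ← add_assoc, D.two_M Q, zero_add] at h4
  exact h4

/-- a line over `p` moving `r` -/
theorem line_of_mv {p r : AddSubgroup M} (h : Mv (VV ρ π (S : Subgroup G) P) p r) :
    ∃ k ∈ H, img π (MulAut.conj k • zc (S : Subgroup G)) = p ∧
      ∃ a ∈ MulAut.conj k • zl (S : Subgroup G) P, ∃ ha : a ∈ H, ∃ x ∈ r, ρ ⟨a, ha⟩ • x ≠ x := by
  by_contra hcon
  push Not at hcon
  obtain ⟨v, hv, x, hx, hne⟩ := h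
  let L : Subgroup Γ :=
    { carrier := {v | ∀ x ∈ r, v • x = x}
      mul_mem' := fun {a b} h1 h2 x hx => by rw [mul_smul, h2 x hx, h1 x hx]
      one_mem' := fun x _ => one_smul _ x
      inv_mem' := fun {a} h1 x hx => by rw [inv_smul_eq_iff, h1 x hx] }
  refine hne (D.VV_le (L := L) ?_ hv x hx)
  intro k hk hp a ha haH x hx
  exact hcon k hk hp a ha haH x hx

/-- lines `V^h`, `V^k` moving each other's points are opposite -/
theorem opp_of_mv {h k a b x y : G} (hh : h ∈ H) (hk : k ∈ H)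
    (ha : a ∈ MulAut.conj h • zl (S : Subgroup G) P) (hx : x ∈ MulAut.conj k • zc (S : Subgroup G)) (h1 : cm a x ≠ 1)
    (hb : b ∈ MulAut.conj k • zl (S : Subgroup G) P) (hy : y ∈ MulAut.conj h • zc (S : Subgroup G)) (h2 : cm b y ≠ 1) :
    Opp (S : Subgroup G) P h k := by
  by_contra ho
  rcases D.pair hh hk ho with h3 | h3
  · exact h2 (cm_eq_one.2 (D.Y_comm hb (h3 hy)))
  · exact h1 (cm_eq_one.2 (D.Y_comm ha (h3 hx)))

omit Q in
/-- **(3)(b)**, group form. -/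
theorem bij_group {k w x y : G} (hk : k ∈ H)
    (hw : w ∈ NN (S : Subgroup G) P H) (hw2 : IsPGroup 2 (zpowers w))
    (hx : x ∈ MulAut.conj k • zc (S : Subgroup G)) (hxF : x ∉ Fc (S : Subgroup G) H)
    (hwx : cm w x ∈ Rr (S : Subgroup G) P H) (hy : y ∈ MulAut.conj k • zc (S : Subgroup G))
    (hwy : cm w y ∉ MulAut.conj k • Yy (S : Subgroup G) P H) : False := by
  have : Fact (Nat.Prime 2) := ⟨Nat.prime_two⟩
  have hwH := D.NN_le_H hw
  have hxU := D.conjZ_le hk hx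
  have hyU := D.conjZ_le hk hy
  have hNR : ∀ {n r : G}, n ∈ NN (S : Subgroup G) P H → r ∈ Rr (S : Subgroup G) P H → n * r = r * n :=
    fun hn hr => mem_centralizer_iff.1 (mem_inf.1 hr).2 _ hn
  set L : Subgroup G := NN (S : Subgroup G) P H ⊓ centralizer ({x} : Set G) with hL
  -- `V^k ≤ O₂(C_N(x))`
  have hB : MulAut.conj k • zl (S : Subgroup G) P ≤ o2 L := by
    have h1 := D.min_o2 hk hx hxF
    have h2 : o2 (H ⊓ centralizer ({x} : Set G)) ⊓ NN (S : Subgroup G) P H ≤ o2 L := by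
      refine le_o2 (le_inf inf_le_right (inf_le_left.trans ?_)) ((o2_isPGroup _).to_le inf_le_left) ?_
      · exact (Cfsg.Agent.MinSimple.VModule.o2_le _).trans inf_le_right
      · intro g hg
        have h5 := le_normalizer_o2 (H ⊓ centralizer ({x} : Set G))
          (show g ∈ H ⊓ centralizer ({x} : Set G) from ⟨D.NN_le_H (mem_inf.1 hg).1, (mem_inf.1 hg).2⟩)
        rw [mem_normalizer_iff] at h5 ⊢
        intro t
        rw [mem_inf, mem_inf, h5 t, mem_normalizer_iff.mp (Subgroup.le_normalizer (mem_inf.1 hg).1) t]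
    exact (le_inf h1 (conj_le_NN hk)).trans h2
  -- `w` normalises `C_N(x)`
  have hwL : w ∈ normalizer (L : Set G) := by
    have key : ∀ u : G, u ∈ NN (S : Subgroup G) P H → (∃ r ∈ Rr (S : Subgroup G) P H, u⁻¹ * x * u = r * x) →
        ∀ g ∈ L, u * g * u⁻¹ ∈ L := by
      rintro u hu ⟨r, hr, h1⟩ g hg
      obtain ⟨hg1, hg2⟩ := mem_inf.1 hg
      refine mem_inf.2 ⟨mul_mem (mul_mem hu hg1) (inv_mem hu), ?_⟩
      rw [mem_centralizer_singleton_iff] at hg2 ⊢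
      have h2 : g * (r * x) = (r * x) * g := by
        calc g * (r * x) = (g * r) * x := by group
          _ = (r * g) * x := by rw [hNR hg1 hr]
          _ = r * (g * x) := by group
          _ = (r * x) * g := by rw [hg2]; group
      calc u * g * u⁻¹ * x = u * (g * (u⁻¹ * x * u)) * u⁻¹ := by group
        _ = u * (g * (r * x)) * u⁻¹ := by rw [h1]
        _ = u * ((r * x) * g) * u⁻¹ := by rw [h2]
        _ = u * ((u⁻¹ * x * u) * g) * u⁻¹ := by rw [h1]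
        _ = x * (u * g * u⁻¹) := by group
    have h3 : w * x * w⁻¹ = cm w x * x := (cm_mul w x).symm
    have h4 : w⁻¹ * x * w = (w⁻¹ * (cm w x)⁻¹ * w) * x := by
      have h5 : x = (cm w x)⁻¹ * (w * x * w⁻¹) := by rw [h3]; group
      calc w⁻¹ * x * w = w⁻¹ * ((cm w x)⁻¹ * (w * x * w⁻¹)) * w := by rw [← h5]
        _ = (w⁻¹ * (cm w x)⁻¹ * w) * x := by group
    have h6 : w⁻¹ * (cm w x)⁻¹ * w ∈ Rr (S : Subgroup G) P H := by
      have h7 := conj_mem_of_mem (D.HR (inv_mem hwH)) (inv_mem hwx)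
      rwa [inv_inv] at h7
    rw [mem_normalizer_iff]
    intro g
    constructor
    · exact key w hw ⟨_, h6, h4⟩ g
    · intro hg
      have h7 := key w⁻¹ (inv_mem hw) ⟨_, hwx, by rw [inv_inv]; exact h3⟩ _ hg
      have e1 : w⁻¹ * (w * g * w⁻¹) * w⁻¹⁻¹ = g := by group
      rwa [e1] at h7
  have hwO : zpowers w ≤ normalizer (o2 L : Set G) := by
    rw [zpowers_le]
    exact Cfsg.Agent.Omega.normalizer_le_normalizer_o2' _ hwL
  set X : Subgroup G := zpowers w ⊔ o2 L with hX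
  have hXp : IsPGroup 2 X := IsPGroup.to_sup_of_normal_right' hw2 (o2_isPGroup _) hwO
  have hXN : X ≤ NN (S : Subgroup G) P H :=
    sup_le (by rw [zpowers_le]; exact hw) ((Cfsg.Agent.MinSimple.VModule.o2_le _).trans inf_le_left)
  have hXH : X ≤ H := hXN.trans D.NN_le_H
  have hwX : w ∈ X := (le_sup_left : _ ≤ X) (mem_zpowers w)
  have hBX : MulAut.conj k • zl (S : Subgroup G) P ≤ X := hB.trans le_sup_right
  set T : Subgroup G := X ⊔ zl (S : Subgroup G) H with hT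
  have hTp : IsPGroup 2 T := IsPGroup.to_sup_of_normal_right' hXp (S.isPGroup'.to_le D.US) (hXH.trans D.HU)
  have hnil : Group.IsNilpotent T := IsPGroup.isNilpotent hTp
  obtain ⟨n, hn⟩ := (Subgroup.isNilpotent_iff_lowerCentralSeries T).mp hnil
  have hXT : X ≤ T := le_sup_left
  have hUT : zl (S : Subgroup G) H ≤ T := le_sup_right
  have hcU : cm w y ∈ zl (S : Subgroup G) H := by
    have e1 : cm w y = (w * y * w⁻¹) * y⁻¹ := by rw [cm_def]
    rw [e1]
    exact mul_mem (conj_mem_of_mem (D.HU hwH) hyU) (inv_mem hyU)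
  obtain ⟨b, hb, hf⟩ := D.exists_cm hk hcU hwy hy
  have hfR : cm b (cm w y) * y ∈ Rr (S : Subgroup G) P H := by
    rw [← D.R_inf_Z] at hf
    exact (mem_inf.mp hf).1
  have hbcU : cm b (cm w y) ∈ zl (S : Subgroup G) H := by
    have e1 : cm b (cm w y) = (b * (cm w y) * b⁻¹) * (cm w y)⁻¹ := by rw [cm_def]
    rw [e1]
    exact mul_mem (conj_mem_of_mem (D.HU (hXH (hBX hb))) hcU) (inv_mem hcU)
  have hcomm : ∀ {m : ℕ} {c z : G}, c ∈ X → z ∈ T.lowerCentralSeries m → cm c z ∈ T.lowerCentralSeries (m + 1) := by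
    intro m c z hc hz
    change _ ∈ ⁅T.lowerCentralSeries m, T⁆
    have h3 : cm c z = ⁅z, c⁆⁻¹ := by
      rw [commutatorElement_inv]
      rfl
    rw [h3]
    exact inv_mem (commutator_mem_commutator hz (hXT hc))
  have key : ∀ m : ℕ, ∃ r ∈ Rr (S : Subgroup G) P H, y * r ∈ T.lowerCentralSeries m := by
    intro m
    induction m with
    | zero => exact ⟨1, one_mem _, by rw [mul_one]; exact hUT hyU⟩
    | succ m ih =>
      obtain ⟨r, hr, h1⟩ := ih
      refine ⟨cm b (cm w y) * y, hfR, ?_⟩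
      have h2 : y * (cm b (cm w y) * y) = cm b (cm w y) := by
        rw [D.commU hbcU hyU, ← mul_assoc, D.sqU hyU, one_mul]
      rw [h2]
      have h3 : cm w (y * r) = cm w y := by
        have h4 := hNR hw hr
        rw [cm_def, cm_def, mul_inv_rev]
        have h5 : r * w⁻¹ = w⁻¹ * r := by
          calc r * w⁻¹ = w⁻¹ * (w * r) * w⁻¹ := by group
            _ = w⁻¹ * (r * w) * w⁻¹ := by rw [h4]
            _ = w⁻¹ * r := by group
        calc w * (y * r) * w⁻¹ * (r⁻¹ * y⁻¹) = w * y * (r * w⁻¹) * r⁻¹ * y⁻¹ := by group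
          _ = w * y * (w⁻¹ * r) * r⁻¹ * y⁻¹ := by rw [h5]
          _ = w * y * w⁻¹ * y⁻¹ := by group
      have h6 := hcomm hwX h1
      rw [h3] at h6
      have h7 := hcomm (hBX hb) h6
      exact Subgroup.lowerCentralSeries_antitone T (Nat.le_succ (m + 1)) h7
  obtain ⟨r, hr, h1⟩ := key n
  rw [hn, mem_bot] at h1
  have h2 : y ∈ Rr (S : Subgroup G) P H := by
    rw [mul_eq_one_iff_eq_inv.mp h1]
    exact inv_mem hr
  apply hwy
  have h3 : cm w y = 1 := cm_eq_one.2 (hNR hw h2)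
  rw [h3]
  exact one_mem _

/-- `N` acts through the `VV s` -/
theorem rho_NN_mem {n : G} (hn : n ∈ NN (S : Subgroup G) P H) (hnH : n ∈ H) :
    ρ ⟨n, hnH⟩ ∈ ⨆ s ∈ Pt π (S : Subgroup G) H, VV ρ π (S : Subgroup G) P s := by
  set L : Subgroup Γ := ⨆ s ∈ Pt π (S : Subgroup G) H, VV ρ π (S : Subgroup G) P s with hL
  have h1 : NN (S : Subgroup G) P H ≤ (L.comap ρ).map H.subtype := by
    refine NN_le fun k hk a ha => ?_
    have haH := D.conjV_le hk ha
    refine ⟨⟨a, haH⟩, ?_, rfl⟩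
    have h2 : VV ρ π (S : Subgroup G) P (img π (MulAut.conj k • zc (S : Subgroup G))) ≤ L :=
      le_iSup₂_of_le _ (mem_Pt hk) le_rfl
    exact h2 (mem_VV.2 ⟨a, haH, conj_le_VG hk ha, rfl⟩)
  obtain ⟨⟨n', hn'⟩, h3, h4⟩ := h1 hn
  have h5 : n' = n := h4
  subst h5
  exact h3

/-- (3)(b) -/
theorem bijM {p r : AddSubgroup M} (hr : r ∈ Pt π (S : Subgroup G) H)
    (hm : Mv (VV ρ π (S : Subgroup G) P) r p) {v : Γ} (hv : v ∈ VV ρ π (S : Subgroup G) P p) :
    (∀ x ∈ r, v • x = x) ∨ ∀ x ∈ r, v • x = x → x = 0 := by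
  by_contra hcon
  push Not at hcon
  obtain ⟨⟨y₀, hy₀, hvy⟩, x₀, hx₀, hvx, hx0⟩ := hcon
  -- a line `B = V^k` over `r` moving `p`
  obtain ⟨k, hk, rfl, b, hb, hbH, t₀, ht₀, hbt⟩ := D.line_of_mv Q hm
  -- a line `A = V^h` over `p` moving `r`
  obtain ⟨h, hh, hp, a, ha, haH, s₀, hs₀, has⟩ := D.line_of_mv Q ⟨v, hv, y₀, hy₀, hvy⟩
  obtain ⟨y, hy, rfl⟩ := (Q.mem_img (D.conjZ_le hk)).1 hy₀
  obtain ⟨x, hx, rfl⟩ := (Q.mem_img (D.conjZ_le hk)).1 hx₀
  obtain ⟨s, hs, rfl⟩ := (Q.mem_img (D.conjZ_le hk)).1 hs₀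
  rw [← hp] at ht₀
  obtain ⟨t, ht, rfl⟩ := (Q.mem_img (D.conjZ_le hh)).1 ht₀
  rw [Ne, D.smul_eq_iff Q hbH (D.conjZ_le hh ht)] at hbt
  rw [Ne, D.smul_eq_iff Q haH (D.conjZ_le hk hs)] at has
  have ho : Opp (S : Subgroup G) P h k :=
    D.opp_of_mv Q hh hk ha hs (fun h1 => has (h1 ▸ one_mem _)) hb ht (fun h1 => hbt (h1 ▸ one_mem _))
  -- a `2`-element
  obtain ⟨w₀, hw₀H, hw₀, rfl⟩ := mem_VV.1 hv
  obtain ⟨w, hwH, hw, hw2, hρ⟩ := exists_two ρ hw₀ hw₀H (D.VV_sq Q hv)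
  rw [← hρ] at hvx hvy
  rw [D.smul_eq_iff Q hwH (D.conjZ_le hk hx)] at hvx
  rw [Ne, D.smul_eq_iff Q hwH (D.conjZ_le hk hy)] at hvy
  refine D.bij_group hk (D.VG_le_NN p hw) hw2 hx (fun h1 => hx0 ((D.pi_eq_zero Q hk hx).2 h1)) hvx hy fun h1 => ?_
  -- `[w, y] ∈ Y^k` : it is in `Z^h R`
  have hcU := D.cm_mem_U Q hwH (D.conjZ_le hk hy)
  have h2 := (D.VV_prop Q hv).1 (π y)
  rw [← hρ, D.smul_add Q hwH (D.conjZ_le hk hy), ← hp, Q.pi_mem_iff (D.conjZ_le hh) hcU] at h2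
  obtain ⟨z, hz, r, hr', h3⟩ := h2
  have h4 : z ∈ MulAut.conj k • Yy (S : Subgroup G) P H := by
    have e1 : z = r⁻¹ * cm w y := by rw [h3]; group
    rw [e1]
    exact mul_mem (inv_mem (D.R_le_Y hk hr')) h1
  have h5 := D.inf_F hh hk ho hz h4
  rw [← D.R_inf_Z] at h5
  apply hvy
  rw [h3]
  exact mul_mem hr' (mem_inf.1 h5).1

/-- a line over `p` -/
theorem lineM {p r : AddSubgroup M} (hm : Mv (VV ρ π (S : Subgroup G) P) p r) :
    ∃ A ≤ VV ρ π (S : Subgroup G) P p, (∃ a ∈ A, ∃ x ∈ r, a • x ≠ x) ∧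
      ∀ u : M, (∀ a ∈ A, a • u = u) ∨ ((∀ y ∈ p, ∃ a ∈ A, a • u = u + y) ∧ ∀ a ∈ A, a • u = u → a = 1) := by
  obtain ⟨h, hh, rfl, a, ha, haH, s₀, hs₀, has⟩ := D.line_of_mv Q hm
  refine ⟨((MulAut.conj h • zl (S : Subgroup G) P).subgroupOf H).map ρ, ?_, ?_, ?_⟩
  · rintro _ ⟨⟨b, hbH⟩, hb, rfl⟩
    exact mem_VV.2 ⟨b, hbH, conj_le_VG hh hb, rfl⟩
  · exact ⟨_, ⟨⟨a, haH⟩, ha, rfl⟩, s₀, hs₀, has⟩
  · intro u₀
    obtain ⟨u, hu, rfl⟩ := Q.surj u₀
    by_cases huY : u ∈ MulAut.conj h • Yy (S : Subgroup G) P H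
    · refine Or.inl ?_
      rintro _ ⟨⟨b, hbH⟩, hb, rfl⟩
      have hb' : b ∈ MulAut.conj h • zl (S : Subgroup G) P := hb
      rw [D.smul_eq_iff Q hbH hu, cm_eq_one.2 (D.Y_comm hb' huY)]
      exact one_mem _
    · refine Or.inr ⟨fun y₀ hy₀ => ?_, ?_⟩
      · obtain ⟨z, hz, rfl⟩ := (Q.mem_img (D.conjZ_le hh)).1 hy₀
        obtain ⟨b, hb, h1⟩ := D.exists_cm hh hu huY hz
        have hbH := D.conjV_le hh hb
        refine ⟨ρ ⟨b, hbH⟩, ⟨⟨b, hbH⟩, hb, rfl⟩, ?_⟩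
        have hcU := D.cm_mem_U Q hbH hu
        have hzU := D.conjZ_le hh hz
        have h2 : π (cm b u) = π z := by
          have h3 : π (cm b u * z) = 0 := by
            rw [Q.ker _ (mul_mem hcU hzU)]
            rw [← D.R_inf_Z] at h1
            exact (mem_inf.1 h1).1
          rw [Q.mul _ hcU _ hzU] at h3
          have h4 := congrArg (fun t => t + π z) h3
          simp only [add_assoc] at h4
          rwa [D.two_M Q, add_zero, zero_add] at h4
        have h3 := D.smul_add Q hbH hu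
        rw [h2] at h3
        have h4 := congrArg (fun t => t + π u) h3
        simp only [add_assoc] at h4
        rwa [D.two_M Q, add_zero, add_comm (π z)] at h4
      · rintro _ ⟨⟨b, hbH⟩, hb, rfl⟩ h1
        rw [D.smul_eq_iff Q hbH hu] at h1
        have hbZ : b ∈ MulAut.conj h • zc (S : Subgroup G) := by
          by_contra h2
          exact D.not_R' hh hb h2 hu huY h1
        refine (Q.rho_eq_one hbH).2 fun x hx => ?_
        have h3 := D.commU (D.conjZ_le hh hbZ) hx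
        rw [h3, mul_inv_cancel_right, mul_inv_cancel]
        exact one_mem _

/-- **(3)**: the points of `U / R`. -/
theorem frame : Frame ρ.range (Pt π (S : Subgroup G) H) (VV ρ π (S : Subgroup G) P) where
  two := D.two_M Q
  nonempty := ⟨_, mem_Pt (one_mem H)⟩
  ne := by
    rintro _ ⟨h, hh, rfl⟩ h1
    obtain ⟨z, hz, hzF⟩ := D.Z_not_F hh
    apply hzF
    rw [← D.pi_eq_zero Q hh hz]
    have h2 := Md.pi_mem (π := π) hz
    rw [h1] at h2
    exact h2
  span := by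
    rw [eq_top_iff]
    intro m _
    obtain ⟨u, hu, rfl⟩ := Q.surj m
    let A : Subgroup G :=
      { carrier := {x | x ∈ zl (S : Subgroup G) H ∧ π x ∈ sSup (Pt π (S : Subgroup G) H)}
        mul_mem' := by
          rintro x y ⟨hx, h1⟩ ⟨hy, h2⟩
          refine ⟨mul_mem hx hy, ?_⟩
          rw [Q.mul x hx y hy]
          exact add_mem h1 h2
        one_mem' := ⟨one_mem _, by rw [Q.one]; exact zero_mem _⟩
        inv_mem' := by
          rintro x ⟨hx, h1⟩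
          refine ⟨inv_mem hx, ?_⟩
          rw [Q.neg hx]
          exact neg_mem h1 }
    have h1 : zl (S : Subgroup G) H ≤ A := NoFF.Basic.V_le (Z := zc (S : Subgroup G)) fun k hk y hy =>
      ⟨D.conjZ_le hk hy, (le_sSup (mem_Pt hk) : _ ≤ sSup (Pt π (S : Subgroup G) H)) (Md.pi_mem hy)⟩
    exact (h1 hu).2
  inv := by
    rintro _ ⟨⟨g, hg⟩, rfl⟩ _ ⟨h, hh, rfl⟩
    rw [D.smul_pt Q hg hh]
    exact mem_Pt (mul_mem hg hh)
  conj := by
    rintro _ ⟨⟨g, hg⟩, rfl⟩ _ ⟨h, hh, rfl⟩ v hv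
    obtain ⟨w, hwH, hw, rfl⟩ := mem_VV.1 hv
    rw [D.smul_pt Q hg hh]
    have h1 : ρ ⟨g, hg⟩ * ρ ⟨w, hwH⟩ * (ρ ⟨g, hg⟩)⁻¹ = ρ ⟨g * w * g⁻¹, mul_mem (mul_mem hg hwH) (inv_mem hg)⟩ := by
      rw [← map_mul, ← map_inv, ← map_mul]
      rfl
    rw [h1]
    refine mem_VV.2 ⟨_, _, ?_, rfl⟩
    have h2 : VG π (S : Subgroup G) P H (img π (MulAut.conj h • zc (S : Subgroup G))) ≤
        (VG π (S : Subgroup G) P H (img π (MulAut.conj (g * h) • zc (S : Subgroup G)))).comap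
          (MulAut.conj g).toMonoidHom := by
      refine VG_le fun k hk hp a ha => ?_
      rw [mem_comap]
      change g * a * g⁻¹ ∈ _
      have h3 : img π (MulAut.conj (g * k) • zc (S : Subgroup G)) = img π (MulAut.conj (g * h) • zc (S : Subgroup G)) := by
        rw [← D.smul_pt Q hg hk, ← D.smul_pt Q hg hh, hp]
      rw [← h3]
      refine conj_le_VG (mul_mem hg hk) ?_
      rw [mem_conj] at ha ⊢
      have e1 : (g * k)⁻¹ * (g * a * g⁻¹) * (g * k) = k⁻¹ * a * k := by group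
      rwa [e1]
    exact h2 hw
  le := by
    intro p _ v hv
    obtain ⟨w, hwH, hw, rfl⟩ := mem_VV.1 hv
    exact ⟨_, rfl⟩
  trans := by
    rintro _ ⟨h, hh, rfl⟩ _ ⟨k, hk, rfl⟩
    obtain ⟨n, hn, h1⟩ := D.exists_conj hh
    obtain ⟨n', hn', h2⟩ := D.exists_conj hk
    rw [h1, h2]
    have hnH := D.NN_le_H hn
    have hnH' := D.NN_le_H hn'
    refine ⟨ρ ⟨n' * n⁻¹, mul_mem hnH' (inv_mem hnH)⟩, D.rho_NN_mem Q (mul_mem hn' (inv_mem hn)) _, ?_⟩
    rw [D.smul_pt Q _ hnH]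
    congr 3
    group
  faith := fun p _ v _ h => Q.faith v h
  fixed := by
    intro m h
    obtain ⟨u, hu, rfl⟩ := Q.surj m
    rw [Q.ker u hu]
    refine D.mem_R hu fun n hn => ?_
    have hnH := D.NN_le_H hn
    rw [← D.smul_eq_iff Q hnH hu]
    have h1 : (⨆ s ∈ Pt π (S : Subgroup G) H, VV ρ π (S : Subgroup G) P s) ≤ MulAction.stabilizer Γ (π u) :=
      iSup₂_le fun s hs v hv => h s hs v hv
    exact h1 (D.rho_NN_mem Q hn hnH)
  map := fun p _ v hv m => (D.VV_prop Q hv).1 m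
  triv := fun p _ v hv x hx => (D.VV_prop Q hv).2 x hx
  bij := fun p _ r hr hm v hv => D.bijM Q hr hm hv
  line := fun p _ r _ hm => D.lineM Q hm

end HypQ

end Cfsg.Agent.Omega.NOThreeL.RA

end

section


/-!
# NO-3L, `R ∩ (A)`, `k = 1`, `q > 2` (#19087): the lines over `Z R`, and MANY AXES at group level

* `HypQ.comm_of_smul` : `a ∈ V^k` fixes `π z`, `z ∈ Z^h`, then `[a, z] = 1`;
* `HypQ.VG_le_CZ` : the lines over a point `t` with `¬ Mv t Z~` lie in `C = C_G(Z)`;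
* `HypQ.over_le_o2` : the lines over `Z~` lie in `O₂(C_N(Z)) ≤ S`;
* `HypQ.many_false` : MANY AXES (`p ~ e ⟹ p = e`) is impossible.
-/

set_option autoImplicit false
set_option linter.unusedSectionVars false

namespace Cfsg.Agent.Omega.NOThreeL.RA

open Subgroup Cfsg Cfsg.Agent.Omega.MinPar
open Cfsg.Agent.ZN (zc zl o2)
open Cfsg.Agent.Omega.Frame Cfsg.Agent.Omega.FrameNOFF
open Cfsg.Agent.Omega.Node.NO3L Cfsg.Agent.Omega.NOThreeL.Basic
open Cfsg.Agent.Omega.NoFF.Basic (conj_conj mem_conj conj_le_iff conj_le_centralizer comm_symm comm_mono)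
open Cfsg.Agent.Omega.NOThreeL.Pair (conj_eq_of_mem conj_le_normalizer zl_abel)
open Cfsg.Agent.MinSimple.VModule (zl_le zc_le_zl le_normalizer_zl zc_le o2_isPGroup le_normalizer_o2 le_o2 o2_le)
open Cfsg.Agent.Omega.NOThreeL.RTools (cm cm_def cm_mul NN conj_mem_of_mem conj_le_NN le_NN NN_le le_normalizer_NN)
open Cfsg.Agent.Omega.NOThreeL.RBig.Pts (Mv Frame)
open scoped Pointwise commutatorElement

universe u

variable {G : Type u} [Group G]

/-- a `2`-subgroup normalised by the Sylow group lies in it -/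
theorem le_sylow [Finite G] (S : Sylow 2 G) {A : Subgroup G} (hA : IsPGroup 2 A)
    (h : (S : Subgroup G) ≤ normalizer (A : Set G)) : A ≤ (S : Subgroup G) := by
  have h1 : IsPGroup 2 ((S : Subgroup G) ⊔ A : Subgroup G) := IsPGroup.to_sup_of_normal_right' S.isPGroup' hA h
  exact le_sup_right.trans (S.is_maximal' h1 le_sup_left).le

namespace HypQ

variable [Finite G] {F : Type} [Field F] {e : G → Fin 2 → F} {S : Sylow 2 G} {P H : Subgroup G} (D : HypQ e S P H)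
  {M Γ : Type*} [AddCommGroup M] [Group Γ] [DistribMulAction Γ M] {ρ : ↥H →* Γ} {π : G → M}
include D

variable (Q : Md (zl (S : Subgroup G) H) (Rr (S : Subgroup G) P H) H ρ π)

/-- `[a, z] ∈ R` implies `[a, z] = 1` for `a ∈ V^k`, `z ∈ Z^h` -/
theorem comm_of_R {h k a z : G} (hh : h ∈ H) (hk : k ∈ H) (ha : a ∈ MulAut.conj k • zl (S : Subgroup G) P)
    (hz : z ∈ MulAut.conj h • zc (S : Subgroup G)) (hR : cm a z ∈ Rr (S : Subgroup G) P H) : a * z = z * a :=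
  D.comm_of_F hh hz (D.conjV_le hk ha) (D.R_inf hk hR (D.cm_conj hk ha (D.conjZ_le hh hz)))

include Q

/-- the line `V^k` centralises `Z` if it fixes `Z~` -/
theorem line_le_CZ {k : G} (hk : k ∈ H) (h : ∀ a ∈ MulAut.conj k • zl (S : Subgroup G) P, ∀ ha : a ∈ H,
    ∀ x ∈ img π (zc (S : Subgroup G)), ρ ⟨a, ha⟩ • x = x) :
    MulAut.conj k • zl (S : Subgroup G) P ≤ CZ (S : Subgroup G) := by
  intro a ha
  change a ∈ centralizer (zc (S : Subgroup G) : Set G)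
  rw [mem_centralizer_iff]
  intro z hz
  have haH := D.conjV_le hk ha
  have h1 := h a ha haH (π z) (Md.pi_mem hz)
  rw [D.smul_eq_iff Q haH (D.ZU hz)] at h1
  have hz' : z ∈ MulAut.conj (1 : G) • zc (S : Subgroup G) := by rwa [map_one, one_smul]
  exact (D.comm_of_R (one_mem H) hk ha hz' h1).symm

/-- the lines over a point commuting with `Z~` lie in `C` -/
theorem VG_le_CZ {t : AddSubgroup M} (ht : ¬ Mv (VV ρ π (S : Subgroup G) P) t (img π (zc (S : Subgroup G)))) :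
    VG π (S : Subgroup G) P H t ≤ CZ (S : Subgroup G) := by
  refine VG_le fun k hk hp => D.line_le_CZ Q hk fun a ha haH x hx => ?_
  refine RBig.Pts.not_mv ht (mem_VV.2 ⟨a, haH, ?_, rfl⟩) hx
  rw [← hp]
  exact conj_le_VG hk ha

/-- the lines over `Z~` -/
theorem over_le_CZ {k : G} (hk : k ∈ H) (hp : img π (MulAut.conj k • zc (S : Subgroup G)) = img π (zc (S : Subgroup G))) :
    MulAut.conj k • zl (S : Subgroup G) P ≤ CZ (S : Subgroup G) := by
  refine D.line_le_CZ Q hk fun a ha haH x hx => ?_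
  rw [← hp] at hx
  exact (D.VV_prop Q (mem_VV.2 ⟨a, haH, conj_le_VG hk ha, rfl⟩)).2 x hx

/-- **the lines over `Z~` lie in `O₂(C_N(Z))`** -/
theorem over_le_o2 {k : G} (hk : k ∈ H)
    (hp : img π (MulAut.conj k • zc (S : Subgroup G)) = img π (zc (S : Subgroup G))) :
    MulAut.conj k • zl (S : Subgroup G) P ≤ o2 (NN (S : Subgroup G) P H ⊓ CZ (S : Subgroup G)) := by
  obtain ⟨z, hz, hzF⟩ := D.Z_not_F (one_mem H)
  rw [map_one, one_smul] at hz
  have h1 : π z ∈ img π (MulAut.conj k • zc (S : Subgroup G)) := by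
    rw [hp]
    exact Md.pi_mem hz
  rw [Q.pi_mem_iff (D.conjZ_le hk) (D.ZU hz)] at h1
  obtain ⟨x, hx, r, hr, h2⟩ := h1
  have hxF : x ∉ Fc (S : Subgroup G) H := by
    intro h3
    apply hzF
    refine D.R_inf (one_mem H) ?_ (by rwa [map_one, one_smul])
    rw [h2]
    rw [← D.R_inf_Z] at h3
    exact mul_mem hr (mem_inf.1 h3).1
  have h3 := D.min_o2 hk hx hxF
  have h4 : NN (S : Subgroup G) P H ⊓ CZ (S : Subgroup G) ≤ H ⊓ centralizer ({x} : Set G) := by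
    intro n hn
    obtain ⟨hn1, hn2⟩ := mem_inf.1 hn
    refine mem_inf.2 ⟨D.NN_le_H hn1, ?_⟩
    rw [mem_centralizer_singleton_iff]
    have h5 : n * r = r * n := mem_centralizer_iff.1 (mem_inf.1 hr).2 n hn1
    have h6 : z * n = n * z := mem_centralizer_iff.1 hn2 z hz
    have h7 : x = r⁻¹ * z := by rw [h2]; group
    have h8 : n * r⁻¹ = r⁻¹ * n := by
      calc n * r⁻¹ = r⁻¹ * (r * n) * r⁻¹ := by group
        _ = r⁻¹ * (n * r) * r⁻¹ := by rw [h5]
        _ = r⁻¹ * n := by group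
    rw [h7]
    calc n * (r⁻¹ * z) = (n * r⁻¹) * z := by group
      _ = (r⁻¹ * n) * z := by rw [h8]
      _ = r⁻¹ * (n * z) := by group
      _ = r⁻¹ * (z * n) := by rw [h6]
      _ = r⁻¹ * z * n := by group
  have h5 : o2 (H ⊓ centralizer ({x} : Set G)) ⊓ (NN (S : Subgroup G) P H ⊓ CZ (S : Subgroup G)) ≤
      o2 (NN (S : Subgroup G) P H ⊓ CZ (S : Subgroup G)) := by
    refine le_o2 inf_le_right ((o2_isPGroup _).to_le inf_le_left) ?_
    intro g hg
    have h6 := le_normalizer_o2 (H ⊓ centralizer ({x} : Set G)) (h4 hg)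
    rw [mem_normalizer_iff] at h6 ⊢
    intro t
    have h7 := mem_normalizer_iff.mp (Subgroup.le_normalizer hg) t
    exact ⟨fun ht => mem_inf.2 ⟨(h6 t).1 (mem_inf.1 ht).1, h7.1 (mem_inf.1 ht).2⟩,
      fun ht => mem_inf.2 ⟨(h6 t).2 (mem_inf.1 ht).1, h7.2 (mem_inf.1 ht).2⟩⟩
  exact (le_inf h3 (le_inf (conj_le_NN hk) (D.over_le_CZ Q hk hp))).trans h5

omit Q in
theorem o2_NC_le_S : o2 (NN (S : Subgroup G) P H ⊓ CZ (S : Subgroup G)) ≤ (S : Subgroup G) := by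
  refine le_sylow S (o2_isPGroup _) ?_
  have h1 : (S : Subgroup G) ≤ normalizer ((NN (S : Subgroup G) P H ⊓ CZ (S : Subgroup G) : Subgroup G) : Set G) := by
    intro s hs
    have h2 := le_normalizer_NN (S : Subgroup G) P H (D.SH hs)
    have h3 := Subgroup.le_normalizer (le_CZ S hs)
    rw [mem_normalizer_iff] at h2 h3 ⊢
    intro t
    rw [mem_inf, mem_inf, h2 t, h3 t]
  exact h1.trans (Cfsg.Agent.Omega.normalizer_le_normalizer_o2' _)

/-- the lines over `Z~` lie in `S` -/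
theorem over_le_S {k : G} (hk : k ∈ H)
    (hp : img π (MulAut.conj k • zc (S : Subgroup G)) = img π (zc (S : Subgroup G))) :
    MulAut.conj k • zl (S : Subgroup G) P ≤ (S : Subgroup G) :=
  (D.over_le_o2 Q hk hp).trans D.o2_NC_le_S

/-- the lines over `Z~` commute with `V_{P₁}`, `P₁ ≤ H` -/
theorem over_comm {k : G} (hk : k ∈ H)
    (hp : img π (MulAut.conj k • zc (S : Subgroup G)) = img π (zc (S : Subgroup G))) {P₁ : Subgroup G}
    (h₁ : IsParS (S : Subgroup G) P₁) (hH : P₁ ≤ H) :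
    MulAut.conj k • zl (S : Subgroup G) P ≤ centralizer (zl (S : Subgroup G) P₁ : Set G) := by
  have D' := Basic.geo D.hc D.data
  have h := D'.noff' D.par h₁ (g := k) (h := 1) (by
    rw [map_one, one_smul]
    exact (D.over_le_S Q hk hp).trans h₁.le) (by
    rw [map_one, one_smul]
    have h2 : zl (S : Subgroup G) P₁ ≤ zl (S : Subgroup G) H := End.zl_mono hH
    refine h2.trans ?_
    rw [← D.conjU hk]
    exact conj_le_iff.2 D.UP)
  rw [map_one, one_smul] at h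
  exact h

/-- **MANY AXES** is impossible. -/
theorem many_false (hmany : ∀ e ∈ Pt π (S : Subgroup G) H, ∀ p ∈ Pt π (S : Subgroup G) H,
    ¬ Mv (VV ρ π (S : Subgroup G) P) e p → e = p) : False := by
  have Fr := D.frame Q
  set e₀ := img π (zc (S : Subgroup G)) with he₀
  have hone : img π (MulAut.conj (1 : G) • zc (S : Subgroup G)) = e₀ := by rw [map_one, one_smul]
  have heP : e₀ ∈ Pt π (S : Subgroup G) H := ⟨1, one_mem H, hone⟩
  -- `H` fixes `e₀`
  have hle : H ≤ (Subgroup.comap ρ (MulAction.stabilizer Γ e₀)).map H.subtype := by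
    refine D.gen _ (fun c hcc => ?_) fun P₁ h₁ hH g hg => ?_
    · have hcH := D.CH hcc
      refine ⟨⟨c, hcH⟩, ?_, rfl⟩
      change ρ ⟨c, hcH⟩ • e₀ = e₀
      rw [he₀, D.smul_img Q hcH D.ZU, conj_eq_of_mem (centralizer_le_normalizer _ hcc)]
    · have hgH := hH hg
      refine ⟨⟨g, hgH⟩, ?_, rfl⟩
      change ρ ⟨g, hgH⟩ • e₀ = e₀
      rw [he₀, D.smul_img Q hgH D.ZU]
      refine (hmany e₀ heP _ (mem_Pt hgH) ?_).symm
      intro hm
      obtain ⟨k, hk, hp, a, ha, haH, x, hx, hne⟩ := D.line_of_mv Q hm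
      apply hne
      obtain ⟨z, hz, rfl⟩ := (Q.mem_img (D.conjZ_le hgH)).1 hx
      rw [D.smul_eq_iff Q haH (D.conjZ_le hgH hz)]
      have h1 : z ∈ zl (S : Subgroup G) P₁ := by
        have h2 := (conj_le_iff (g := g)).2 (zc_le_zl (S : Subgroup G) P₁)
        rw [conj_eq_of_mem (le_normalizer_zl _ _ hg)] at h2
        exact h2 hz
      have h2 := mem_centralizer_iff.1 (D.over_comm Q hk hp h₁ hH ha) z h1
      rw [cm_eq_one.2 h2.symm]
      exact one_mem _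
  obtain ⟨r, hr, hm⟩ := Fr.exists_mv heP
  obtain ⟨h, hh, rfl⟩ := hr
  obtain ⟨⟨h', hh'⟩, h1, h2⟩ := hle hh
  have h3 : h' = h := h2
  subst h3
  have h4 : ρ ⟨h', hh'⟩ • e₀ = e₀ := h1
  rw [he₀, D.smul_img Q hh' D.ZU] at h4
  rw [h4] at hm
  obtain ⟨v, hv, x, hx, hne⟩ := hm
  exact hne (Fr.triv _ heP v hv x hx)

end HypQ

end Cfsg.Agent.Omega.NOThreeL.RA

end

section


/-!
# NO-3L, `R ∩ (A)`, `k = 1`, `q > 2` (#19087 (6)): (Q) from the point system

`e = Z R / R`; `Out Pt VV e` (one axis) implies `End.QP S P H`: every abelian normal subgroup `B ≤ O₂(C)` of `C`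
acts on `U` as a subgroup of `V`.

* `HypQ.VG_le_CZ_of` : the lines over the points `t ~ e` are in `C`;
* `HypQ.quad` : the image of `B` satisfies `Quad`;
* `HypQ.reg_mem` : an element of `VV e` is the image of an element of `V`;
* **`HypQ.qp`**.
-/

set_option autoImplicit false
set_option linter.unusedSectionVars false

namespace Cfsg.Agent.Omega.NOThreeL.RA

open Subgroup Cfsg Cfsg.Agent.Omega.MinPar
open Cfsg.Agent.ZN (zc zl o2)
open Cfsg.Agent.Omega.Frame Cfsg.Agent.Omega.FrameNOFF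
open Cfsg.Agent.Omega.Node.NO3L Cfsg.Agent.Omega.NOThreeL.Basic
open Cfsg.Agent.Omega.NoFF.Basic (conj_conj mem_conj conj_le_iff conj_le_centralizer comm_symm comm_mono)
open Cfsg.Agent.MinSimple.VModule (zl_le zc_le_zl le_normalizer_zl zc_le o2_isPGroup le_normalizer_o2 le_o2
  normalizer_le_normalizer_zc)
open Cfsg.Agent.Omega.NOThreeL.RTools (cm cm_def cm_mul NN conj_mem_of_mem conj_le_NN le_NN NN_le le_normalizer_NN
  le_sup_inf isLong)
open Cfsg.Agent.Omega.NOThreeL.RBig.Pts (Mv Frame Out Quad)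
open scoped Pointwise commutatorElement

universe u

variable {G : Type u} [Group G]

namespace HypQ

variable [Finite G] {F : Type} [Field F] {e : G → Fin 2 → F} {S : Sylow 2 G} {P H : Subgroup G} (D : HypQ e S P H)
  {M Γ : Type*} [AddCommGroup M] [Group Γ] [DistribMulAction Γ M] {ρ : ↥H →* Γ} {π : G → M}
include D

theorem VC : zl (S : Subgroup G) P ≤ CZ (S : Subgroup G) := by
  refine D.VS.trans ?_
  intro s hs
  refine mem_centralizer_iff.2 fun z hz => ?_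
  exact (zcomm hz hs).symm

theorem UC : zl (S : Subgroup G) H ≤ CZ (S : Subgroup G) := by
  refine D.US.trans ?_
  intro s hs
  refine mem_centralizer_iff.2 fun z hz => ?_
  exact (zcomm hz hs).symm

variable (Q : Md (zl (S : Subgroup G) H) (Rr (S : Subgroup G) P H) H ρ π)
include Q

theorem pt_e : img π (zc (S : Subgroup G)) ∈ Pt π (S : Subgroup G) H := by
  have h := mem_Pt (π := π) (S := (S : Subgroup G)) (one_mem H)
  rwa [map_one, one_smul] at h

/-- the lines over `t ~ e` are in `C` -/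
theorem VG_le_CZ_of {t : AddSubgroup M} (ht : ¬ Mv (VV ρ π (S : Subgroup G) P) t (img π (zc (S : Subgroup G)))) :
    VG π (S : Subgroup G) P H t ≤ CZ (S : Subgroup G) := by
  refine VG_le fun k hk hp a ha => ?_
  have haH := D.conjV_le hk ha
  refine mem_centralizer_iff.2 fun z hz => ?_
  have hzU := D.ZU hz
  have h1 : ρ ⟨a, haH⟩ • π z = π z :=
    RBig.Pts.not_mv ht (mem_VV.2 ⟨a, haH, hp ▸ conj_le_VG hk ha, rfl⟩) (Md.pi_mem hz)
  rw [D.smul_eq_iff Q haH hzU] at h1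
  have h2 := D.R_inf hk h1 (D.cm_conj hk ha hzU)
  have h3 : z ∈ MulAut.conj (1 : G) • zc (S : Subgroup G) := by rwa [map_one, one_smul]
  exact (D.comm_of_F (one_mem H) h3 haH h2).symm

/-- the image of `B` -/
theorem quad {B : Subgroup G} (hB : B ≤ o2 (CZ (S : Subgroup G))) (hCB : CZ (S : Subgroup G) ≤ normalizer (B : Set G))
    (hBB : B ≤ centralizer (B : Set G)) :
    Quad ρ.range (Pt π (S : Subgroup G) H) (VV ρ π (S : Subgroup G) P) (img π (zc (S : Subgroup G)))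
      ((B.subgroupOf H).map ρ) where
  le := by
    rintro _ ⟨b, _, rfl⟩
    exact ⟨b, rfl⟩
  quad := by
    rintro _ ⟨⟨b, hbH⟩, hb, rfl⟩ _ ⟨⟨b', hbH'⟩, hb', rfl⟩ m
    have hb1 : b ∈ B := hb
    have hb2 : b' ∈ B := hb'
    obtain ⟨u, hu, rfl⟩ := Q.surj m
    rw [D.smul_add Q hbH' hu, D.smul_eq_iff Q hbH (D.cm_mem_U Q hbH' hu)]
    have h1 : cm b' u ∈ B := by
      have h2 := conj_mem_of_mem (hCB (D.UC hu)) (inv_mem hb2)
      have e1 : cm b' u = b' * (u * b'⁻¹ * u⁻¹) := by rw [cm_def]; group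
      rw [e1]
      exact mul_mem hb2 h2
    have h3 : cm b (cm b' u) = 1 := cm_eq_one.2 (mem_centralizer_iff.1 (hBB hb1) _ h1).symm
    rw [h3]
    exact one_mem _
  norm := by
    rintro t _ hte _ hv _ ⟨⟨b, hbH⟩, hb, rfl⟩
    have hb1 : b ∈ B := hb
    obtain ⟨w, hwH, hw, rfl⟩ := mem_VV.1 hv
    refine ⟨⟨w * b * w⁻¹, mul_mem (mul_mem hwH hbH) (inv_mem hwH)⟩, ?_, ?_⟩
    · exact conj_mem_of_mem (hCB (D.VG_le_CZ_of Q hte hw)) hb1
    · rw [← map_mul, ← map_inv, ← map_mul]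
      rfl
  fixe := by
    rintro _ ⟨⟨b, hbH⟩, hb, rfl⟩ x hx
    have hb1 : b ∈ B := hb
    obtain ⟨z, hz, rfl⟩ := (Q.mem_img D.ZU).1 hx
    rw [D.smul_eq_iff Q hbH (D.ZU hz)]
    have h1 : b ∈ CZ (S : Subgroup G) := (Cfsg.Agent.MinSimple.VModule.o2_le _) (hB hb1)
    have h2 : cm b z = 1 := cm_eq_one.2 (mem_centralizer_iff.1 h1 z hz).symm
    rw [h2]
    exact one_mem _

/-- an element of `VV e` is the image of an element of `V` -/
theorem reg_mem (O : Out (Pt π (S : Subgroup G) H) (VV ρ π (S : Subgroup G) P) (img π (zc (S : Subgroup G))))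
    {v : Γ} (hv : v ∈ VV ρ π (S : Subgroup G) P (img π (zc (S : Subgroup G)))) :
    ∃ a ∈ zl (S : Subgroup G) P, ∃ ha : a ∈ H, v = ρ ⟨a, ha⟩ := by
  have hF := D.frame Q
  have he := D.pt_e Q
  have h1 : MulAut.conj (1 : G) • zl (S : Subgroup G) P = zl (S : Subgroup G) P := by rw [map_one, one_smul]
  have h1z : MulAut.conj (1 : G) • zc (S : Subgroup G) = zc (S : Subgroup G) := by rw [map_one, one_smul]
  have hV : ∀ a ∈ zl (S : Subgroup G) P, ∀ ha : a ∈ H,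
      ρ ⟨a, ha⟩ ∈ VV ρ π (S : Subgroup G) P (img π (zc (S : Subgroup G))) := fun a ha haH => by
    have h2 := conj_le_VG (π := π) (S := (S : Subgroup G)) (P := P) (one_mem H)
    rw [h1, h1z] at h2
    exact mem_VV.2 ⟨a, haH, h2 ha, rfl⟩
  -- `u ∈ U - Y`
  obtain ⟨u, hu, huY⟩ : ∃ u ∈ zl (S : Subgroup G) H, u ∉ MulAut.conj (1 : G) • Yy (S : Subgroup G) P H := by
    by_contra hcon
    push Not at hcon
    refine D.ne (comm_symm fun u hu => ?_)
    have h2 := hcon u hu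
    rw [map_one, one_smul] at h2
    exact (mem_inf.1 h2).2
  -- some element of `V` outside of `Z`
  have hux : π u ∉ RBig.Pts.Yx (VV ρ π (S : Subgroup G) P) (img π (zc (S : Subgroup G))) := by
    intro h2
    obtain ⟨z, hz, hzF⟩ := D.Z_not_F (one_mem H)
    obtain ⟨a, ha, hc⟩ := D.exists_cm (one_mem H) hu huY hz
    rw [h1] at ha
    have haH := D.VH ha
    have h3 := h2 _ (hV a ha haH)
    rw [D.smul_eq_iff Q haH hu] at h3
    have h4 : z ∈ Rr (S : Subgroup G) P H := by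
      have h5 : cm a u * z ∈ Rr (S : Subgroup G) P H := by
        rw [← D.R_inf_Z] at hc
        exact (mem_inf.1 hc).1
      have h6 := mul_mem (inv_mem h3) h5
      rwa [inv_mul_cancel_left] at h6
    exact hzF (D.R_inf (one_mem H) h4 hz)
  obtain ⟨hreg1, hreg2⟩ := O.reg hF he hux
  -- `v • π u = π u + π z`
  have h3 : v • π u + π u ∈ img π (zc (S : Subgroup G)) := hF.map _ he v hv _
  obtain ⟨z, hz, hzv⟩ := (Q.mem_img D.ZU).1 h3
  obtain ⟨a, ha, hc⟩ := D.exists_cm (one_mem H) hu huY (w := z) (by rwa [h1z])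
  rw [h1] at ha
  have haH := D.VH ha
  refine ⟨a, ha, haH, ?_⟩
  have h4 : ρ ⟨a, haH⟩ • π u + π u = π z := by
    rw [D.smul_add Q haH hu]
    have h5 : cm a u * z ∈ Rr (S : Subgroup G) P H := by
      rw [← D.R_inf_Z] at hc
      exact (mem_inf.1 hc).1
    have hcU := D.cm_mem_U Q haH hu
    rw [Q.eq_iff hcU (D.ZU hz), D.inv_U (D.ZU hz)]
    exact h5
  have h5 : ρ ⟨a, haH⟩ • π u = v • π u := by
    have h6 : ρ ⟨a, haH⟩ • π u + π u = v • π u + π u := by rw [h4, hzv]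
    exact add_right_cancel h6
  have h6 := hreg2 (v⁻¹ * ρ ⟨a, haH⟩) (mul_mem (inv_mem hv) (hV a ha haH)) (by
    rw [mul_smul, h5, inv_smul_smul])
  rw [inv_mul_eq_one] at h6
  exact h6

/-- **(Q)** -/
theorem qp [Finite M] (O : Out (Pt π (S : Subgroup G) H) (VV ρ π (S : Subgroup G) P) (img π (zc (S : Subgroup G)))) :
    End.QP (S : Subgroup G) P H := by
  intro B hB hCB hBB b hb
  have hQ := D.quad Q hB hCB hBB
  have hF := D.frame Q
  have he := D.pt_e Q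
  have hbC : b ∈ CZ (S : Subgroup G) := (Cfsg.Agent.MinSimple.VModule.o2_le _) (hB hb)
  have hbH := D.CH hbC
  obtain ⟨v, hv, h1⟩ := hQ.main O hF he (b := ρ ⟨b, hbH⟩) ⟨⟨b, hbH⟩, hb, rfl⟩
  obtain ⟨a, ha, haH, rfl⟩ := D.reg_mem Q O hv
  have h2 : ∀ x ∈ zl (S : Subgroup G) H, cm (b * a⁻¹) x ∈ Rr (S : Subgroup G) P H := by
    intro x hx
    have hbaH : b * a⁻¹ ∈ H := mul_mem hbH (inv_mem haH)
    rw [← D.smul_eq_iff Q hbaH hx]
    have h3 : ρ ⟨b * a⁻¹, hbaH⟩ = ρ ⟨b, hbH⟩ * (ρ ⟨a, haH⟩)⁻¹ := by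
      rw [← map_inv, ← map_mul]
      rfl
    rw [h3, mul_smul, h1, smul_inv_smul]
  have h3 := D.tr_C (mul_mem hbC (inv_mem (D.VC ha))) h2
  have h4 : b * a⁻¹ ∈ centralizer (zl (S : Subgroup G) H : Set G) :=
    mem_centralizer_iff.2 fun x hx => (cm_eq_one.1 (h3 x hx)).symm
  have h5 : b = b * a⁻¹ * a := by group
  rw [h5]
  exact mul_mem (mem_sup_right h4) (mem_sup_left ha)

end HypQ

end Cfsg.Agent.Omega.NOThreeL.RA

end

section


/-!
# NO-3L, `R ∩ (A)`, `k = 1`, nonsplit, fields (NsF), (f) END: the points of `U / I`, (3)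

`Q : RA.Md U I H ρ π` (`M = U / I`).  Points: `Pt π Zp H = {img Zp^h}`; `VG π Zp S P H p` = the group generated by the
lines `V^h`, `Zp^h I = p`; `VV ρ π Zp S P p` its image in `Γ`.

* `HypF.line_of_mv`, `HypF.opp_of_mv` : the group meaning of `Mv (VV ρ π Zp S P) p r`;
* `HypF.bij_group` : (3)(b);
* **`HypF.frame`** : `Frame ρ.range (Pt π Zp H) (VV ρ π Zp S P)`.

The text is that of `RA/Pts.lean`.
-/

set_option autoImplicit false
set_option linter.unusedSectionVars false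

namespace Cfsg.Agent.Omega.NOThreeL.RFEnd

open Subgroup Cfsg Cfsg.Agent.Omega.MinPar
open Cfsg.Agent.ZN (zc zl o2)
open Cfsg.Agent.Omega.Frame Cfsg.Agent.Omega.FrameNOFF
open Cfsg.Agent.Omega.Node.NO3L Cfsg.Agent.Omega.NOThreeL.Basic
open Cfsg.Agent.Omega.NoFF.Basic (conj_conj mem_conj conj_le_iff conj_le_centralizer comm_symm comm_mono)
open Cfsg.Agent.Omega.NOThreeL.Pair (conj_eq_of_mem conj_le_normalizer zl_abel)
open Cfsg.Agent.MinSimple.VModule (zl_le zc_le_zl le_normalizer_zl zc_le o2_isPGroup le_normalizer_o2 le_o2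
  normalizer_le_normalizer_zc)
open Cfsg.Agent.Omega.NOThreeL (mem_normalizer_of_conj_eq le_normalizer_of mem_sup_of_comm)
open Cfsg.Agent.Omega.NOThreeL.RTools (cm cm_def cm_mul NN conj_mem_of_mem conj_le_NN le_NN NN_le le_normalizer_NN
  le_sup_inf isLong)
open Cfsg.Agent.Omega.NOThreeL.RBig.Pts (Mv Frame)
open Cfsg.Agent.Omega.NOThreeL.RA (Yy Rr Opp Md img exists_two)
open scoped Pointwise commutatorElement

universe u

variable {G : Type u} [Group G]

section defs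

variable {H : Subgroup G} {M Γ : Type*} [AddCommGroup M] [Group Γ] [DistribMulAction Γ M]

/-- the points -/
def Pt (π : G → M) (Zp H : Subgroup G) : Set (AddSubgroup M) := {p | ∃ h ∈ H, img π (MulAut.conj h • Zp) = p}

/-- the group generated by the lines over `p` -/
def VG (π : G → M) (Zp S P H : Subgroup G) (p : AddSubgroup M) : Subgroup G :=
  ⨆ (h : G) (_ : h ∈ H ∧ img π (MulAut.conj h • Zp) = p), MulAut.conj h • zl S P

/-- its image -/
def VV (ρ : ↥H →* Γ) (π : G → M) (Zp S P : Subgroup G) (p : AddSubgroup M) : Subgroup Γ :=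
  ((VG π Zp S P H p).subgroupOf H).map ρ

theorem mem_Pt {π : G → M} {Zp H : Subgroup G} {h : G} (hh : h ∈ H) : img π (MulAut.conj h • Zp) ∈ Pt π Zp H :=
  ⟨h, hh, rfl⟩

theorem conj_le_VG {π : G → M} {Zp S P H : Subgroup G} {h : G} (hh : h ∈ H) :
    MulAut.conj h • zl S P ≤ VG π Zp S P H (img π (MulAut.conj h • Zp)) :=
  le_iSup₂_of_le h ⟨hh, rfl⟩ le_rfl

theorem VG_le {π : G → M} {Zp S P H X : Subgroup G} {p : AddSubgroup M}
    (h : ∀ k ∈ H, img π (MulAut.conj k • Zp) = p → MulAut.conj k • zl S P ≤ X) : VG π Zp S P H p ≤ X :=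
  iSup₂_le fun k hk => h k hk.1 hk.2

end defs

namespace HypF

variable [Finite G] {F : Type} [Field F] {e : G → Fin 2 → F} {S : Sylow 2 G} {P H Zp Rp Dp B : Subgroup G}
  (D : HypF e S P H Zp Rp Dp B)
  {M Γ : Type*} [AddCommGroup M] [Group Γ] [DistribMulAction Γ M] {ρ : ↥H →* Γ} {π : G → M}
include D

/-- `M = U / R` exists -/
theorem exists_md : ∃ (M : Type u) (_ : AddCommGroup M) (Γ : Type u) (_ : Group Γ) (_ : DistribMulAction Γ M)
    (ρ : ↥H →* Γ) (π : G → M), Md (zl (S : Subgroup G) H) (Rr (S : Subgroup G) P H) H ρ π :=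
  RA.exists_md D.RU (fun _ hx _ hy => D.commU hx hy) (fun _ hg _ hx => conj_mem_of_mem (D.HU hg) hx)
    (fun _ hg _ hx => conj_mem_of_mem (D.HR hg) hx)

theorem VG_le_NN (p : AddSubgroup M) : VG π Zp (S : Subgroup G) P H p ≤ NN (S : Subgroup G) P H :=
  VG_le fun _ hk _ => conj_le_NN hk

theorem VG_le_H (p : AddSubgroup M) : VG π Zp (S : Subgroup G) P H p ≤ H := (D.VG_le_NN p).trans D.NN_le_H

omit [Finite G] D in
theorem mem_VV {p : AddSubgroup M} {v : Γ} :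
    v ∈ VV ρ π Zp (S : Subgroup G) P p ↔ ∃ w, ∃ hw : w ∈ H, w ∈ VG π Zp (S : Subgroup G) P H p ∧ ρ ⟨w, hw⟩ = v := by
  constructor
  · rintro ⟨⟨w, hw⟩, h1, rfl⟩
    exact ⟨w, hw, h1, rfl⟩
  · rintro ⟨w, hw, h1, rfl⟩
    exact ⟨⟨w, hw⟩, h1, rfl⟩

/-- to be in `L` for the whole `VV p` -/
theorem VV_le {p : AddSubgroup M} {L : Subgroup Γ} (h : ∀ k ∈ H, img π (MulAut.conj k • Zp) = p →
    ∀ a ∈ MulAut.conj k • zl (S : Subgroup G) P, ∀ ha : a ∈ H, ρ ⟨a, ha⟩ ∈ L) : VV ρ π Zp (S : Subgroup G) P p ≤ L := by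
  have h1 : VG π Zp (S : Subgroup G) P H p ≤ (L.comap ρ).map H.subtype := by
    refine VG_le fun k hk hp a ha => ?_
    have haH := D.conjV_le hk ha
    exact ⟨⟨a, haH⟩, h k hk hp a ha haH, rfl⟩
  intro v hv
  obtain ⟨w, hw, h2, rfl⟩ := mem_VV.1 hv
  obtain ⟨⟨w', hw'⟩, h3, h4⟩ := h1 h2
  have h5 : w' = w := h4
  subst h5
  exact h3

variable (Q : Md (zl (S : Subgroup G) H) (Rr (S : Subgroup G) P H) H ρ π)
include Q

theorem two_M (m : M) : m + m = 0 := by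
  obtain ⟨x, hx, rfl⟩ := Q.surj m
  rw [← Q.mul x hx x hx, D.sqU hx, Q.one]

/-- `g • img A = img A^g` -/
theorem smul_img {g : G} (hg : g ∈ H) {A : Subgroup G} (hA : A ≤ zl (S : Subgroup G) H) :
    ρ ⟨g, hg⟩ • img π A = img π (MulAut.conj g • A) := by
  have hA' : MulAut.conj g • A ≤ zl (S : Subgroup G) H := by
    have h1 := (conj_le_iff (g := g)).2 hA
    rwa [D.conjU hg] at h1
  ext m
  rw [RBig.Pts.mem_smul_iff, Q.mem_img hA']
  constructor
  · rintro ⟨x, hx, rfl⟩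
    obtain ⟨a, ha, rfl⟩ := (Q.mem_img hA).1 hx
    refine ⟨g * a * g⁻¹, ?_, (Q.smul hg (hA ha)).symm⟩
    rw [mem_conj]
    simpa [mul_assoc] using ha
  · rintro ⟨a, ha, rfl⟩
    rw [mem_conj] at ha
    refine ⟨π (g⁻¹ * a * g), Md.pi_mem ha, ?_⟩
    rw [Q.smul hg (hA ha)]
    congr 1
    group

theorem smul_pt {g h : G} (hg : g ∈ H) (hh : h ∈ H) :
    ρ ⟨g, hg⟩ • img π (MulAut.conj h • Zp) = img π (MulAut.conj (g * h) • Zp) := by
  rw [D.smul_img Q hg (D.conjZ_le hh), conj_conj]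

/-- `[w, x] ∈ R` -/
theorem smul_eq_iff {g : G} (hg : g ∈ H) {x : G} (hx : x ∈ zl (S : Subgroup G) H) :
    ρ ⟨g, hg⟩ • π x = π x ↔ cm g x ∈ Rr (S : Subgroup G) P H := by
  rw [Q.smul_eq_self hg hx, cm_def]

theorem cm_mem_U {g x : G} (hg : g ∈ H) (hx : x ∈ zl (S : Subgroup G) H) : cm g x ∈ zl (S : Subgroup G) H := by
  have e1 : cm g x = (g * x * g⁻¹) * x⁻¹ := by rw [cm_def]
  rw [e1]
  exact mul_mem (conj_mem_of_mem (D.HU hg) hx) (inv_mem hx)

theorem smul_add {g x : G} (hg : g ∈ H) (hx : x ∈ zl (S : Subgroup G) H) :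
    ρ ⟨g, hg⟩ • π x + π x = π (cm g x) := by
  have h1 : g * x * g⁻¹ = cm g x * x := (cm_mul g x).symm
  rw [Q.smul hg hx, h1, Q.mul _ (D.cm_mem_U Q hg hx) x hx, add_assoc, D.two_M Q, add_zero]

/-- `π (x h)` for elements of `Z^h` -/
theorem pi_eq_zero {h x : G} (hh : h ∈ H) (hx : x ∈ MulAut.conj h • Zp) :
    π x = 0 ↔ x ∈ Rp := by
  rw [Q.ker x (D.conjZ_le hh hx)]
  constructor
  · intro h1
    exact D.R_inf hh h1 hx
  · intro h1
    rw [← D.R_inf_Z] at h1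
    exact (mem_inf.1 h1).1

/-- the elements of `VV p` -/
theorem VV_prop {p : AddSubgroup M} {v : Γ} (hv : v ∈ VV ρ π Zp (S : Subgroup G) P p) :
    (∀ m : M, v • m + m ∈ p) ∧ ∀ x ∈ p, v • x = x := by
  let L : Subgroup Γ :=
    { carrier := {v | (∀ m : M, v • m + m ∈ p) ∧ ∀ x ∈ p, v • x = x}
      mul_mem' := by
        rintro a b ⟨h1, h2⟩ ⟨h3, h4⟩
        refine ⟨fun m => ?_, fun x hx => by rw [mul_smul, h4 x hx, h2 x hx]⟩
        have h5 := p.add_mem (h1 (b • m)) (h3 m)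
        have e1 : a • b • m + b • m + (b • m + m) = (a * b) • m + m := by
          rw [mul_smul]
          calc a • b • m + b • m + (b • m + m) = a • b • m + (b • m + b • m) + m := by abel
            _ = a • b • m + m := by rw [D.two_M Q, add_zero]
        rwa [e1] at h5
      one_mem' := ⟨fun m => by rw [one_smul, D.two_M Q]; exact p.zero_mem, fun x _ => one_smul _ x⟩
      inv_mem' := by
        rintro a ⟨h1, h2⟩
        refine ⟨fun m => ?_, fun x hx => by rw [inv_smul_eq_iff, h2 x hx]⟩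
        have h3 := h1 (a⁻¹ • m)
        rwa [smul_inv_smul, add_comm] at h3 }
  refine D.VV_le (L := L) ?_ hv
  rintro k hk rfl a ha haH
  refine ⟨fun m => ?_, fun x hx => ?_⟩
  · obtain ⟨u, hu, rfl⟩ := Q.surj m
    rw [D.smul_add Q haH hu]
    exact Md.pi_mem (D.cm_conj hk ha hu)
  · obtain ⟨z, hz, rfl⟩ := (Q.mem_img (D.conjZ_le hk)).1 hx
    rw [D.smul_eq_iff Q haH (D.conjZ_le hk hz)]
    have h1 : cm a z = 1 := by
      rw [cm_eq_one]
      have h2 := D.conjZ_le_V k hz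
      rw [mem_conj] at ha h2
      have h3 := D.commV ha h2
      calc a * z = k * ((k⁻¹ * a * k) * (k⁻¹ * z * k)) * k⁻¹ := by group
        _ = k * ((k⁻¹ * z * k) * (k⁻¹ * a * k)) * k⁻¹ := by rw [h3]
        _ = z * a := by group
    rw [h1]
    exact one_mem _

theorem VV_sq {p : AddSubgroup M} {v : Γ} (hv : v ∈ VV ρ π Zp (S : Subgroup G) P p) : v * v = 1 := by
  refine Q.faith _ fun m => ?_
  obtain ⟨h1, h2⟩ := D.VV_prop Q hv
  have h3 := h2 _ (h1 m)
  rw [_root_.smul_add] at h3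
  rw [mul_smul]
  have h4 := congrArg (fun t => t + v • m) h3
  simp only [add_assoc] at h4
  rw [D.two_M Q, add_zero, add_comm m (v • m), ← add_assoc, D.two_M Q, zero_add] at h4
  exact h4

/-- a line over `p` moving `r` -/
theorem line_of_mv {p r : AddSubgroup M} (h : Mv (VV ρ π Zp (S : Subgroup G) P) p r) :
    ∃ k ∈ H, img π (MulAut.conj k • Zp) = p ∧
      ∃ a ∈ MulAut.conj k • zl (S : Subgroup G) P, ∃ ha : a ∈ H, ∃ x ∈ r, ρ ⟨a, ha⟩ • x ≠ x := by
  by_contra hcon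
  push Not at hcon
  obtain ⟨v, hv, x, hx, hne⟩ := h
  let L : Subgroup Γ :=
    { carrier := {v | ∀ x ∈ r, v • x = x}
      mul_mem' := fun {a b} h1 h2 x hx => by rw [mul_smul, h2 x hx, h1 x hx]
      one_mem' := fun x _ => one_smul _ x
      inv_mem' := fun {a} h1 x hx => by rw [inv_smul_eq_iff, h1 x hx] }
  refine hne (D.VV_le (L := L) ?_ hv x hx)
  intro k hk hp a ha haH x hx
  exact hcon k hk hp a ha haH x hx

/-- lines `V^h`, `V^k` moving each other's points are opposite -/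
theorem opp_of_mv {h k a b x y : G} (hh : h ∈ H) (hk : k ∈ H)
    (ha : a ∈ MulAut.conj h • zl (S : Subgroup G) P) (hx : x ∈ MulAut.conj k • Zp) (h1 : cm a x ≠ 1)
    (hb : b ∈ MulAut.conj k • zl (S : Subgroup G) P) (hy : y ∈ MulAut.conj h • Zp) (h2 : cm b y ≠ 1) :
    Opp (S : Subgroup G) P h k := by
  by_contra ho
  rcases D.pair hh hk ho with h3 | h3
  · exact h2 (cm_eq_one.2 (D.Y_comm hb (h3 hy)))
  · exact h1 (cm_eq_one.2 (D.Y_comm ha (h3 hx)))

omit Q in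
/-- **(3)(b)**, group form. -/
theorem bij_group {k w x y : G} (hk : k ∈ H)
    (hw : w ∈ NN (S : Subgroup G) P H) (hw2 : IsPGroup 2 (zpowers w))
    (hx : x ∈ MulAut.conj k • Zp) (hxF : x ∉ Rp)
    (hwx : cm w x ∈ Rr (S : Subgroup G) P H) (hy : y ∈ MulAut.conj k • Zp)
    (hwy : cm w y ∉ MulAut.conj k • Yy (S : Subgroup G) P H) : False := by
  have : Fact (Nat.Prime 2) := ⟨Nat.prime_two⟩
  have hwH := D.NN_le_H hw
  have hxU := D.conjZ_le hk hx
  have hyU := D.conjZ_le hk hy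
  have hNR : ∀ {n r : G}, n ∈ NN (S : Subgroup G) P H → r ∈ Rr (S : Subgroup G) P H → n * r = r * n :=
    fun hn hr => mem_centralizer_iff.1 (mem_inf.1 hr).2 _ hn
  set L : Subgroup G := NN (S : Subgroup G) P H ⊓ centralizer ({x} : Set G) with hL
  -- `V^k ≤ O₂(C_N(x))`
  have hB : MulAut.conj k • zl (S : Subgroup G) P ≤ o2 L := D.V_le_o2N hk hx hxF
  -- `w` normalises `C_N(x)`
  have hwL : w ∈ normalizer (L : Set G) := by
    have key : ∀ u : G, u ∈ NN (S : Subgroup G) P H → (∃ r ∈ Rr (S : Subgroup G) P H, u⁻¹ * x * u = r * x) →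
        ∀ g ∈ L, u * g * u⁻¹ ∈ L := by
      rintro u hu ⟨r, hr, h1⟩ g hg
      obtain ⟨hg1, hg2⟩ := mem_inf.1 hg
      refine mem_inf.2 ⟨mul_mem (mul_mem hu hg1) (inv_mem hu), ?_⟩
      rw [mem_centralizer_singleton_iff] at hg2 ⊢
      have h2 : g * (r * x) = (r * x) * g := by
        calc g * (r * x) = (g * r) * x := by group
          _ = (r * g) * x := by rw [hNR hg1 hr]
          _ = r * (g * x) := by group
          _ = (r * x) * g := by rw [hg2]; group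
      calc u * g * u⁻¹ * x = u * (g * (u⁻¹ * x * u)) * u⁻¹ := by group
        _ = u * (g * (r * x)) * u⁻¹ := by rw [h1]
        _ = u * ((r * x) * g) * u⁻¹ := by rw [h2]
        _ = u * ((u⁻¹ * x * u) * g) * u⁻¹ := by rw [h1]
        _ = x * (u * g * u⁻¹) := by group
    have h3 : w * x * w⁻¹ = cm w x * x := (cm_mul w x).symm
    have h4 : w⁻¹ * x * w = (w⁻¹ * (cm w x)⁻¹ * w) * x := by
      have h5 : x = (cm w x)⁻¹ * (w * x * w⁻¹) := by rw [h3]; group
      calc w⁻¹ * x * w = w⁻¹ * ((cm w x)⁻¹ * (w * x * w⁻¹)) * w := by rw [← h5]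
        _ = (w⁻¹ * (cm w x)⁻¹ * w) * x := by group
    have h6 : w⁻¹ * (cm w x)⁻¹ * w ∈ Rr (S : Subgroup G) P H := by
      have h7 := conj_mem_of_mem (D.HR (inv_mem hwH)) (inv_mem hwx)
      rwa [inv_inv] at h7
    rw [mem_normalizer_iff]
    intro g
    constructor
    · exact key w hw ⟨_, h6, h4⟩ g
    · intro hg
      have h7 := key w⁻¹ (inv_mem hw) ⟨_, hwx, by rw [inv_inv]; exact h3⟩ _ hg
      have e1 : w⁻¹ * (w * g * w⁻¹) * w⁻¹⁻¹ = g := by group
      rwa [e1] at h7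
  have hwO : zpowers w ≤ normalizer (o2 L : Set G) := by
    rw [zpowers_le]
    exact Cfsg.Agent.Omega.normalizer_le_normalizer_o2' _ hwL
  set X : Subgroup G := zpowers w ⊔ o2 L with hX
  have hXp : IsPGroup 2 X := IsPGroup.to_sup_of_normal_right' hw2 (o2_isPGroup _) hwO
  have hXN : X ≤ NN (S : Subgroup G) P H :=
    sup_le (by rw [zpowers_le]; exact hw) ((Cfsg.Agent.MinSimple.VModule.o2_le _).trans inf_le_left)
  have hXH : X ≤ H := hXN.trans D.NN_le_H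
  have hwX : w ∈ X := (le_sup_left : _ ≤ X) (mem_zpowers w)
  have hBX : MulAut.conj k • zl (S : Subgroup G) P ≤ X := hB.trans le_sup_right
  set T : Subgroup G := X ⊔ zl (S : Subgroup G) H with hT
  have hTp : IsPGroup 2 T := IsPGroup.to_sup_of_normal_right' hXp (S.isPGroup'.to_le D.US) (hXH.trans D.HU)
  have hnil : Group.IsNilpotent T := IsPGroup.isNilpotent hTp
  obtain ⟨n, hn⟩ := (Subgroup.isNilpotent_iff_lowerCentralSeries T).mp hnil
  have hXT : X ≤ T := le_sup_left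
  have hUT : zl (S : Subgroup G) H ≤ T := le_sup_right
  have hcU : cm w y ∈ zl (S : Subgroup G) H := by
    have e1 : cm w y = (w * y * w⁻¹) * y⁻¹ := by rw [cm_def]
    rw [e1]
    exact mul_mem (conj_mem_of_mem (D.HU hwH) hyU) (inv_mem hyU)
  obtain ⟨b, hb, hf⟩ := D.exists_cm hk hcU hwy hy
  have hfR : cm b (cm w y) * y ∈ Rr (S : Subgroup G) P H := by
    rw [← D.R_inf_Z] at hf
    exact (mem_inf.mp hf).1
  have hbcU : cm b (cm w y) ∈ zl (S : Subgroup G) H := by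
    have e1 : cm b (cm w y) = (b * (cm w y) * b⁻¹) * (cm w y)⁻¹ := by rw [cm_def]
    rw [e1]
    exact mul_mem (conj_mem_of_mem (D.HU (hXH (hBX hb))) hcU) (inv_mem hcU)
  have hcomm : ∀ {m : ℕ} {c z : G}, c ∈ X → z ∈ T.lowerCentralSeries m → cm c z ∈ T.lowerCentralSeries (m + 1) := by
    intro m c z hc hz
    change _ ∈ ⁅T.lowerCentralSeries m, T⁆
    have h3 : cm c z = ⁅z, c⁆⁻¹ := by
      rw [commutatorElement_inv]
      rfl
    rw [h3]
    exact inv_mem (commutator_mem_commutator hz (hXT hc))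
  have key : ∀ m : ℕ, ∃ r ∈ Rr (S : Subgroup G) P H, y * r ∈ T.lowerCentralSeries m := by
    intro m
    induction m with
    | zero => exact ⟨1, one_mem _, by rw [mul_one]; exact hUT hyU⟩
    | succ m ih =>
      obtain ⟨r, hr, h1⟩ := ih
      refine ⟨cm b (cm w y) * y, hfR, ?_⟩
      have h2 : y * (cm b (cm w y) * y) = cm b (cm w y) := by
        rw [D.commU hbcU hyU, ← mul_assoc, D.sqU hyU, one_mul]
      rw [h2]
      have h3 : cm w (y * r) = cm w y := by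
        have h4 := hNR hw hr
        rw [cm_def, cm_def, mul_inv_rev]
        have h5 : r * w⁻¹ = w⁻¹ * r := by
          calc r * w⁻¹ = w⁻¹ * (w * r) * w⁻¹ := by group
            _ = w⁻¹ * (r * w) * w⁻¹ := by rw [h4]
            _ = w⁻¹ * r := by group
        calc w * (y * r) * w⁻¹ * (r⁻¹ * y⁻¹) = w * y * (r * w⁻¹) * r⁻¹ * y⁻¹ := by group
          _ = w * y * (w⁻¹ * r) * r⁻¹ * y⁻¹ := by rw [h5]
          _ = w * y * w⁻¹ * y⁻¹ := by group
      have h6 := hcomm hwX h1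
      rw [h3] at h6
      have h7 := hcomm (hBX hb) h6
      exact Subgroup.lowerCentralSeries_antitone T (Nat.le_succ (m + 1)) h7
  obtain ⟨r, hr, h1⟩ := key n
  rw [hn, mem_bot] at h1
  have h2 : y ∈ Rr (S : Subgroup G) P H := by
    rw [mul_eq_one_iff_eq_inv.mp h1]
    exact inv_mem hr
  apply hwy
  have h3 : cm w y = 1 := cm_eq_one.2 (hNR hw h2)
  rw [h3]
  exact one_mem _

/-- `N` acts through the `VV s` -/
theorem rho_NN_mem {n : G} (hn : n ∈ NN (S : Subgroup G) P H) (hnH : n ∈ H) :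
    ρ ⟨n, hnH⟩ ∈ ⨆ s ∈ Pt π Zp H, VV ρ π Zp (S : Subgroup G) P s := by
  set L : Subgroup Γ := ⨆ s ∈ Pt π Zp H, VV ρ π Zp (S : Subgroup G) P s with hL
  have h1 : NN (S : Subgroup G) P H ≤ (L.comap ρ).map H.subtype := by
    refine NN_le fun k hk a ha => ?_
    have haH := D.conjV_le hk ha
    refine ⟨⟨a, haH⟩, ?_, rfl⟩
    have h2 : VV ρ π Zp (S : Subgroup G) P (img π (MulAut.conj k • Zp)) ≤ L :=
      le_iSup₂_of_le _ (mem_Pt hk) le_rfl
    exact h2 (mem_VV.2 ⟨a, haH, conj_le_VG hk ha, rfl⟩)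
  obtain ⟨⟨n', hn'⟩, h3, h4⟩ := h1 hn
  have h5 : n' = n := h4
  subst h5
  exact h3

/-- (3)(b) -/
theorem bijM {p r : AddSubgroup M} (hr : r ∈ Pt π Zp H)
    (hm : Mv (VV ρ π Zp (S : Subgroup G) P) r p) {v : Γ} (hv : v ∈ VV ρ π Zp (S : Subgroup G) P p) :
    (∀ x ∈ r, v • x = x) ∨ ∀ x ∈ r, v • x = x → x = 0 := by
  by_contra hcon
  push Not at hcon
  obtain ⟨⟨y₀, hy₀, hvy⟩, x₀, hx₀, hvx, hx0⟩ := hcon
  -- a line `B = V^k` over `r` moving `p`
  obtain ⟨k, hk, rfl, b, hb, hbH, t₀, ht₀, hbt⟩ := D.line_of_mv Q hm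
  -- a line `A = V^h` over `p` moving `r`
  obtain ⟨h, hh, hp, a, ha, haH, s₀, hs₀, has⟩ := D.line_of_mv Q ⟨v, hv, y₀, hy₀, hvy⟩
  obtain ⟨y, hy, rfl⟩ := (Q.mem_img (D.conjZ_le hk)).1 hy₀
  obtain ⟨x, hx, rfl⟩ := (Q.mem_img (D.conjZ_le hk)).1 hx₀
  obtain ⟨s, hs, rfl⟩ := (Q.mem_img (D.conjZ_le hk)).1 hs₀
  rw [← hp] at ht₀
  obtain ⟨t, ht, rfl⟩ := (Q.mem_img (D.conjZ_le hh)).1 ht₀
  rw [Ne, D.smul_eq_iff Q hbH (D.conjZ_le hh ht)] at hbt
  rw [Ne, D.smul_eq_iff Q haH (D.conjZ_le hk hs)] at has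
  have ho : Opp (S : Subgroup G) P h k :=
    D.opp_of_mv Q hh hk ha hs (fun h1 => has (h1 ▸ one_mem _)) hb ht (fun h1 => hbt (h1 ▸ one_mem _))
  -- a `2`-element
  obtain ⟨w₀, hw₀H, hw₀, rfl⟩ := mem_VV.1 hv
  obtain ⟨w, hwH, hw, hw2, hρ⟩ := exists_two ρ hw₀ hw₀H (D.VV_sq Q hv)
  rw [← hρ] at hvx hvy
  rw [D.smul_eq_iff Q hwH (D.conjZ_le hk hx)] at hvx
  rw [Ne, D.smul_eq_iff Q hwH (D.conjZ_le hk hy)] at hvy
  refine D.bij_group hk (D.VG_le_NN p hw) hw2 hx (fun h1 => hx0 ((D.pi_eq_zero Q hk hx).2 h1)) hvx hy fun h1 => ?_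
  -- `[w, y] ∈ Y^k` : it is in `Z^h R`
  have hcU := D.cm_mem_U Q hwH (D.conjZ_le hk hy)
  have h2 := (D.VV_prop Q hv).1 (π y)
  rw [← hρ, D.smul_add Q hwH (D.conjZ_le hk hy), ← hp, Q.pi_mem_iff (D.conjZ_le hh) hcU] at h2
  obtain ⟨z, hz, r, hr', h3⟩ := h2
  have h4 : z ∈ MulAut.conj k • Yy (S : Subgroup G) P H := by
    have e1 : z = r⁻¹ * cm w y := by rw [h3]; group
    rw [e1]
    exact mul_mem (inv_mem (D.R_le_Y hk hr')) h1
  have h5 := D.inf_F hh hk ho hz h4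
  rw [← D.R_inf_Z] at h5
  apply hvy
  rw [h3]
  exact mul_mem hr' (mem_inf.1 h5).1

/-- a line over `p` -/
theorem lineM {p r : AddSubgroup M} (hm : Mv (VV ρ π Zp (S : Subgroup G) P) p r) :
    ∃ A ≤ VV ρ π Zp (S : Subgroup G) P p, (∃ a ∈ A, ∃ x ∈ r, a • x ≠ x) ∧
      ∀ u : M, (∀ a ∈ A, a • u = u) ∨ ((∀ y ∈ p, ∃ a ∈ A, a • u = u + y) ∧ ∀ a ∈ A, a • u = u → a = 1) := by
  obtain ⟨h, hh, rfl, a, ha, haH, s₀, hs₀, has⟩ := D.line_of_mv Q hm
  refine ⟨((MulAut.conj h • zl (S : Subgroup G) P).subgroupOf H).map ρ, ?_, ?_, ?_⟩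
  · rintro _ ⟨⟨b, hbH⟩, hb, rfl⟩
    exact mem_VV.2 ⟨b, hbH, conj_le_VG hh hb, rfl⟩
  · exact ⟨_, ⟨⟨a, haH⟩, ha, rfl⟩, s₀, hs₀, has⟩
  · intro u₀
    obtain ⟨u, hu, rfl⟩ := Q.surj u₀
    by_cases huY : u ∈ MulAut.conj h • Yy (S : Subgroup G) P H
    · refine Or.inl ?_
      rintro _ ⟨⟨b, hbH⟩, hb, rfl⟩
      have hb' : b ∈ MulAut.conj h • zl (S : Subgroup G) P := hb
      rw [D.smul_eq_iff Q hbH hu, cm_eq_one.2 (D.Y_comm hb' huY)]
      exact one_mem _
    · refine Or.inr ⟨fun y₀ hy₀ => ?_, ?_⟩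
      · obtain ⟨z, hz, rfl⟩ := (Q.mem_img (D.conjZ_le hh)).1 hy₀
        obtain ⟨b, hb, h1⟩ := D.exists_cm hh hu huY hz
        have hbH := D.conjV_le hh hb
        refine ⟨ρ ⟨b, hbH⟩, ⟨⟨b, hbH⟩, hb, rfl⟩, ?_⟩
        have hcU := D.cm_mem_U Q hbH hu
        have hzU := D.conjZ_le hh hz
        have h2 : π (cm b u) = π z := by
          have h3 : π (cm b u * z) = 0 := by
            rw [Q.ker _ (mul_mem hcU hzU)]
            rw [← D.R_inf_Z] at h1
            exact (mem_inf.1 h1).1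
          rw [Q.mul _ hcU _ hzU] at h3
          have h4 := congrArg (fun t => t + π z) h3
          simp only [add_assoc] at h4
          rwa [D.two_M Q, add_zero, zero_add] at h4
        have h3 := D.smul_add Q hbH hu
        rw [h2] at h3
        have h4 := congrArg (fun t => t + π u) h3
        simp only [add_assoc] at h4
        rwa [D.two_M Q, add_zero, add_comm (π z)] at h4
      · rintro _ ⟨⟨b, hbH⟩, hb, rfl⟩ h1
        rw [D.smul_eq_iff Q hbH hu] at h1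
        have hbZ : b ∈ MulAut.conj h • Zp := by
          by_contra h2
          exact D.not_R' hh hb h2 hu huY h1
        refine (Q.rho_eq_one hbH).2 fun x hx => ?_
        have h3 := D.commU (D.conjZ_le hh hbZ) hx
        rw [h3, mul_inv_cancel_right, mul_inv_cancel]
        exact one_mem _

/-- **(3)**: the points of `U / R`. -/
theorem frame : Frame ρ.range (Pt π Zp H) (VV ρ π Zp (S : Subgroup G) P) where
  two := D.two_M Q
  nonempty := ⟨_, mem_Pt (one_mem H)⟩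
  ne := by
    rintro _ ⟨h, hh, rfl⟩ h1
    obtain ⟨z, hz, hzF⟩ := D.Z_not_F hh
    apply hzF
    rw [← D.pi_eq_zero Q hh hz]
    have h2 := Md.pi_mem (π := π) hz
    rw [h1] at h2
    exact h2
  span := by
    rw [eq_top_iff]
    intro m _
    obtain ⟨u, hu, rfl⟩ := Q.surj m
    let A : Subgroup G :=
      { carrier := {x | x ∈ zl (S : Subgroup G) H ∧ π x ∈ sSup (Pt π Zp H)}
        mul_mem' := by
          rintro x y ⟨hx, h1⟩ ⟨hy, h2⟩
          refine ⟨mul_mem hx hy, ?_⟩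
          rw [Q.mul x hx y hy]
          exact add_mem h1 h2
        one_mem' := ⟨one_mem _, by rw [Q.one]; exact zero_mem _⟩
        inv_mem' := by
          rintro x ⟨hx, h1⟩
          refine ⟨inv_mem hx, ?_⟩
          rw [Q.neg hx]
          exact neg_mem h1 }
    have h1 : zl (S : Subgroup G) H ≤ A := NoFF.Basic.V_le (Z := zc (S : Subgroup G)) fun k hk y hy' =>
      have hy : y ∈ MulAut.conj k • Zp := conj_le_iff.2 D.zcZ hy'
      ⟨D.conjZ_le hk hy, (le_sSup (mem_Pt hk) : _ ≤ sSup (Pt π Zp H)) (Md.pi_mem hy)⟩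
    exact (h1 hu).2
  inv := by
    rintro _ ⟨⟨g, hg⟩, rfl⟩ _ ⟨h, hh, rfl⟩
    rw [D.smul_pt Q hg hh]
    exact mem_Pt (mul_mem hg hh)
  conj := by
    rintro _ ⟨⟨g, hg⟩, rfl⟩ _ ⟨h, hh, rfl⟩ v hv
    obtain ⟨w, hwH, hw, rfl⟩ := mem_VV.1 hv
    rw [D.smul_pt Q hg hh]
    have h1 : ρ ⟨g, hg⟩ * ρ ⟨w, hwH⟩ * (ρ ⟨g, hg⟩)⁻¹ = ρ ⟨g * w * g⁻¹, mul_mem (mul_mem hg hwH) (inv_mem hg)⟩ := by
      rw [← map_mul, ← map_inv, ← map_mul]
      rfl
    rw [h1]
    refine mem_VV.2 ⟨_, _, ?_, rfl⟩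
    have h2 : VG π Zp (S : Subgroup G) P H (img π (MulAut.conj h • Zp)) ≤
        (VG π Zp (S : Subgroup G) P H (img π (MulAut.conj (g * h) • Zp))).comap
          (MulAut.conj g).toMonoidHom := by
      refine VG_le fun k hk hp a ha => ?_
      rw [mem_comap]
      change g * a * g⁻¹ ∈ _
      have h3 : img π (MulAut.conj (g * k) • Zp) = img π (MulAut.conj (g * h) • Zp) := by
        rw [← D.smul_pt Q hg hk, ← D.smul_pt Q hg hh, hp]
      rw [← h3]
      refine conj_le_VG (mul_mem hg hk) ?_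
      rw [mem_conj] at ha ⊢
      have e1 : (g * k)⁻¹ * (g * a * g⁻¹) * (g * k) = k⁻¹ * a * k := by group
      rwa [e1]
    exact h2 hw
  le := by
    intro p _ v hv
    obtain ⟨w, hwH, hw, rfl⟩ := mem_VV.1 hv
    exact ⟨_, rfl⟩
  trans := by
    rintro _ ⟨h, hh, rfl⟩ _ ⟨k, hk, rfl⟩
    obtain ⟨n, hn, h1⟩ := D.exists_conj hh
    obtain ⟨n', hn', h2⟩ := D.exists_conj hk
    rw [h1, h2]
    have hnH := D.NN_le_H hn
    have hnH' := D.NN_le_H hn'
    refine ⟨ρ ⟨n' * n⁻¹, mul_mem hnH' (inv_mem hnH)⟩, D.rho_NN_mem Q (mul_mem hn' (inv_mem hn)) _, ?_⟩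
    rw [D.smul_pt Q _ hnH]
    congr 3
    group
  faith := fun p _ v _ h => Q.faith v h
  fixed := by
    intro m h
    obtain ⟨u, hu, rfl⟩ := Q.surj m
    rw [Q.ker u hu]
    refine D.mem_R hu fun n hn => ?_
    have hnH := D.NN_le_H hn
    rw [← D.smul_eq_iff Q hnH hu]
    have h1 : (⨆ s ∈ Pt π Zp H, VV ρ π Zp (S : Subgroup G) P s) ≤ MulAction.stabilizer Γ (π u) :=
      iSup₂_le fun s hs v hv => h s hs v hv
    exact h1 (D.rho_NN_mem Q hn hnH)
  map := fun p _ v hv m => (D.VV_prop Q hv).1 m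
  triv := fun p _ v hv x hx => (D.VV_prop Q hv).2 x hx
  bij := fun p _ r hr hm v hv => D.bijM Q hr hm hv
  line := fun p _ r _ hm => D.lineM Q hm

end HypF

end Cfsg.Agent.Omega.NOThreeL.RFEnd

end

section


/-!
# NO-3L, `R ∩ (A)`, `k = 1`, fields (NsF), (f) END: (6) (Q) from the point system

`e = Zp I / I`; `Out Pt VV e` (one axis) implies (Q) for the abelian normal subgroups `A ≤ O₂(C)` of `C = C_G(Z)`
which centralise `Zp`:

* `HypF.VG_cent_of` : the lines over the points `t ~ e` centralise `Zp`;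
* `HypF.quad` : the image of `A` satisfies `Quad`;
* `HypF.reg_mem` : an element of `VV e` is the image of an element of `V`;
* **`HypF.qp_of`**; **`HypF.qpv : RF.End.QPV S P H`**;
* **`HypF.qp : RA.End.QP S P H`** under `fieldV` : `s ∈ S`, `[s, V] ≤ Zp` imply `s ∈ C(Zp)`.
-/

set_option autoImplicit false
set_option linter.unusedSectionVars false

namespace Cfsg.Agent.Omega.NOThreeL.RFEnd

open Subgroup Cfsg Cfsg.Agent.Omega.MinPar
open Cfsg.Agent.ZN (zc zl o2)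
open Cfsg.Agent.Omega.Frame Cfsg.Agent.Omega.FrameNOFF
open Cfsg.Agent.Omega.Node.NO3L Cfsg.Agent.Omega.NOThreeL.Basic
open Cfsg.Agent.Omega.NoFF.Basic (conj_conj mem_conj conj_le_iff conj_le_centralizer comm_symm comm_mono)
open Cfsg.Agent.MinSimple.VModule (zl_le zc_le_zl le_normalizer_zl zc_le o2_isPGroup le_normalizer_o2 le_o2
  normalizer_le_normalizer_zc)
open Cfsg.Agent.Omega.NOThreeL.RTools (cm cm_def cm_mul NN conj_mem_of_mem conj_le_NN le_NN NN_le le_normalizer_NN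
  le_sup_inf isLong)
open Cfsg.Agent.Omega.NOThreeL.RBig.Pts (Mv Frame Out Quad)
open Cfsg.Agent.Omega.NOThreeL.RA (Yy Rr Opp Md img exists_two)
open scoped Pointwise commutatorElement

universe u

variable {G : Type u} [Group G]

namespace HypF

variable [Finite G] {F : Type} [Field F] {e : G → Fin 2 → F} {S : Sylow 2 G} {P H Zp Rp Dp B : Subgroup G}
  (D : HypF e S P H Zp Rp Dp B)
  {M Γ : Type*} [AddCommGroup M] [Group Γ] [DistribMulAction Γ M] {ρ : ↥H →* Γ} {π : G → M}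
include D

theorem VC : zl (S : Subgroup G) P ≤ CZ (S : Subgroup G) := by
  refine D.VS.trans ?_
  intro s hs
  refine mem_centralizer_iff.2 fun z hz => ?_
  exact (zcomm hz hs).symm

theorem UC : zl (S : Subgroup G) H ≤ CZ (S : Subgroup G) := by
  refine D.US.trans ?_
  intro s hs
  refine mem_centralizer_iff.2 fun z hz => ?_
  exact (zcomm hz hs).symm

/-- `O₂(C) ≤ S` -/
theorem o2CZ_le : o2 (CZ (S : Subgroup G)) ≤ (S : Subgroup G) :=
  MinSimple.VModule.o2_le_of_sylow S.isPGroup' (MinSimple.Basic.not_dvd_relIndex S (le_CZ S))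

variable (Q : Md (zl (S : Subgroup G) H) (Rr (S : Subgroup G) P H) H ρ π)
include Q

theorem pt_e : img π Zp ∈ Pt π Zp H := by
  have h := mem_Pt (π := π) (Zp := Zp) (one_mem H)
  rwa [map_one, one_smul] at h

/-- the lines over `t ~ e` centralise `Zp` -/
theorem VG_cent_of {t : AddSubgroup M} (ht : ¬ Mv (VV ρ π Zp (S : Subgroup G) P) t (img π Zp)) :
    VG π Zp (S : Subgroup G) P H t ≤ centralizer (Zp : Set G) := by
  refine VG_le fun k hk hp a ha => ?_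
  have haH := D.conjV_le hk ha
  refine mem_centralizer_iff.2 fun z hz => ?_
  have hzU := D.ZU hz
  have h1 : ρ ⟨a, haH⟩ • π z = π z :=
    RBig.Pts.not_mv ht (mem_VV.2 ⟨a, haH, hp ▸ conj_le_VG hk ha, rfl⟩) (RA.Md.pi_mem hz)
  rw [D.smul_eq_iff Q haH hzU] at h1
  have h3 : z ∈ MulAut.conj (1 : G) • Zp := by rwa [map_one, one_smul]
  exact (D.comm_of_I (one_mem H) h3 (conj_le_NN hk ha) h1).symm

/-- the image of `A` -/
theorem quad {A : Subgroup G} (hAZ : A ≤ centralizer (Zp : Set G)) (hCA : CZ (S : Subgroup G) ≤ normalizer (A : Set G))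
    (hAA : A ≤ centralizer (A : Set G)) :
    Quad ρ.range (Pt π Zp H) (VV ρ π Zp (S : Subgroup G) P) (img π Zp)
      ((A.subgroupOf H).map ρ) where
  le := by
    rintro _ ⟨b, _, rfl⟩
    exact ⟨b, rfl⟩
  quad := by
    rintro _ ⟨⟨b, hbH⟩, hb, rfl⟩ _ ⟨⟨b', hbH'⟩, hb', rfl⟩ m
    have hb1 : b ∈ A := hb
    have hb2 : b' ∈ A := hb'
    obtain ⟨u, hu, rfl⟩ := Q.surj m
    rw [D.smul_add Q hbH' hu, D.smul_eq_iff Q hbH (D.cm_mem_U Q hbH' hu)]
    have h1 : cm b' u ∈ A := by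
      have h2 := conj_mem_of_mem (hCA (D.UC hu)) (inv_mem hb2)
      have e1 : cm b' u = b' * (u * b'⁻¹ * u⁻¹) := by rw [cm_def]; group
      rw [e1]
      exact mul_mem hb2 h2
    have h3 : cm b (cm b' u) = 1 := cm_eq_one.2 (mem_centralizer_iff.1 (hAA hb1) _ h1).symm
    rw [h3]
    exact one_mem _
  norm := by
    rintro t _ hte _ hv _ ⟨⟨b, hbH⟩, hb, rfl⟩
    have hb1 : b ∈ A := hb
    obtain ⟨w, hwH, hw, rfl⟩ := mem_VV.1 hv
    refine ⟨⟨w * b * w⁻¹, mul_mem (mul_mem hwH hbH) (inv_mem hwH)⟩, ?_, ?_⟩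
    · exact conj_mem_of_mem (hCA (centralizer_le D.zcZ (D.VG_cent_of Q hte hw))) hb1
    · rw [← map_mul, ← map_inv, ← map_mul]
      rfl
  fixe := by
    rintro _ ⟨⟨b, hbH⟩, hb, rfl⟩ x hx
    have hb1 : b ∈ A := hb
    obtain ⟨z, hz, rfl⟩ := (Q.mem_img D.ZU).1 hx
    rw [D.smul_eq_iff Q hbH (D.ZU hz)]
    have h2 : cm b z = 1 := cm_eq_one.2 (mem_centralizer_iff.1 (hAZ hb1) z hz).symm
    rw [h2]
    exact one_mem _

/-- an element of `VV e` is the image of an element of `V` -/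
theorem reg_mem (O : Out (Pt π Zp H) (VV ρ π Zp (S : Subgroup G) P) (img π Zp))
    {v : Γ} (hv : v ∈ VV ρ π Zp (S : Subgroup G) P (img π Zp)) :
    ∃ a ∈ zl (S : Subgroup G) P, ∃ ha : a ∈ H, v = ρ ⟨a, ha⟩ := by
  have hF := D.frame Q
  have he := D.pt_e Q
  have h1 : MulAut.conj (1 : G) • zl (S : Subgroup G) P = zl (S : Subgroup G) P := by rw [map_one, one_smul]
  have h1z : MulAut.conj (1 : G) • Zp = Zp := by rw [map_one, one_smul]
  have hV : ∀ a ∈ zl (S : Subgroup G) P, ∀ ha : a ∈ H,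
      ρ ⟨a, ha⟩ ∈ VV ρ π Zp (S : Subgroup G) P (img π Zp) := fun a ha haH => by
    have h2 := conj_le_VG (π := π) (Zp := Zp) (S := (S : Subgroup G)) (P := P) (one_mem H)
    rw [h1, h1z] at h2
    exact mem_VV.2 ⟨a, haH, h2 ha, rfl⟩
  -- `u ∈ U - Y`
  obtain ⟨u, hu, huY⟩ : ∃ u ∈ zl (S : Subgroup G) H, u ∉ MulAut.conj (1 : G) • Yy (S : Subgroup G) P H := by
    by_contra hcon
    push Not at hcon
    refine D.ne (comm_symm fun u hu => ?_)
    have h2 := hcon u hu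
    rw [map_one, one_smul] at h2
    exact (mem_inf.1 h2).2
  -- some element of `V` outside of `Z`
  have hux : π u ∉ RBig.Pts.Yx (VV ρ π Zp (S : Subgroup G) P) (img π Zp) := by
    intro h2
    obtain ⟨z, hz, hzF⟩ := D.Z_not_F (one_mem H)
    obtain ⟨a, ha, hc⟩ := D.exists_cm (one_mem H) hu huY hz
    rw [h1] at ha
    have haH := D.VH ha
    have h3 := h2 _ (hV a ha haH)
    rw [D.smul_eq_iff Q haH hu] at h3
    have h4 : z ∈ Rr (S : Subgroup G) P H := by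
      have h5 : cm a u * z ∈ Rr (S : Subgroup G) P H := D.Rp_le_Rr hc
      have h6 := mul_mem (inv_mem h3) h5
      rwa [inv_mul_cancel_left] at h6
    exact hzF (D.R_inf (one_mem H) h4 hz)
  obtain ⟨hreg1, hreg2⟩ := O.reg hF he hux
  -- `v • π u = π u + π z`
  have h3 : v • π u + π u ∈ img π Zp := hF.map _ he v hv _
  obtain ⟨z, hz, hzv⟩ := (Q.mem_img D.ZU).1 h3
  obtain ⟨a, ha, hc⟩ := D.exists_cm (one_mem H) hu huY (w := z) (by rwa [h1z])
  rw [h1] at ha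
  have haH := D.VH ha
  refine ⟨a, ha, haH, ?_⟩
  have h4 : ρ ⟨a, haH⟩ • π u + π u = π z := by
    rw [D.smul_add Q haH hu]
    have h5 : cm a u * z ∈ Rr (S : Subgroup G) P H := D.Rp_le_Rr hc
    have hcU := D.cm_mem_U Q haH hu
    have hzi : z⁻¹ = z := inv_eq_of_mul_eq_one_left (D.sqU (D.ZU hz))
    rw [Q.eq_iff hcU (D.ZU hz), hzi]
    exact h5
  have h5 : ρ ⟨a, haH⟩ • π u = v • π u := by
    have h6 : ρ ⟨a, haH⟩ • π u + π u = v • π u + π u := by rw [h4, hzv]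
    exact add_right_cancel h6
  have h6 := hreg2 (v⁻¹ * ρ ⟨a, haH⟩) (mul_mem (inv_mem hv) (hV a ha haH)) (by
    rw [mul_smul, h5, inv_smul_smul])
  rw [inv_mul_eq_one] at h6
  exact h6

/-- **(Q)** for subgroups centralising `Zp` -/
theorem qp_of [Finite M] (O : Out (Pt π Zp H) (VV ρ π Zp (S : Subgroup G) P) (img π Zp)) {A : Subgroup G}
    (hA : A ≤ (S : Subgroup G)) (hAZ : A ≤ centralizer (Zp : Set G))
    (hCA : CZ (S : Subgroup G) ≤ normalizer (A : Set G)) (hAA : A ≤ centralizer (A : Set G)) :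
    A ≤ zl (S : Subgroup G) P ⊔ centralizer (zl (S : Subgroup G) H : Set G) := by
  intro b hb
  have hQ := D.quad Q hAZ hCA hAA
  have hF := D.frame Q
  have he := D.pt_e Q
  have hbH : b ∈ H := D.SH (hA hb)
  obtain ⟨v, hv, h1⟩ := hQ.main O hF he (b := ρ ⟨b, hbH⟩) ⟨⟨b, hbH⟩, hb, rfl⟩
  obtain ⟨a, ha, haH, rfl⟩ := D.reg_mem Q O hv
  have hbaH : b * a⁻¹ ∈ H := mul_mem hbH (inv_mem haH)
  have h2 : ∀ x ∈ zl (S : Subgroup G) H, cm (b * a⁻¹) x ∈ Rr (S : Subgroup G) P H := by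
    intro x hx
    rw [← D.smul_eq_iff Q hbaH hx]
    have h3 : ρ ⟨b * a⁻¹, hbaH⟩ = ρ ⟨b, hbH⟩ * (ρ ⟨a, haH⟩)⁻¹ := by
      rw [← map_inv, ← map_mul]
      rfl
    rw [h3, mul_smul, h1, smul_inv_smul]
  have haZ : a ∈ centralizer (Zp : Set G) := mem_centralizer_iff.2 fun z hz => D.commV (D.ZV hz) ha
  have h3 := D.tr_Z hbaH (mul_mem (hAZ hb) (inv_mem haZ)) h2
  have h4 : b * a⁻¹ ∈ centralizer (zl (S : Subgroup G) H : Set G) :=
    mem_centralizer_iff.2 fun x hx => (cm_eq_one.1 (h3 x hx)).symm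
  have h5 : b = b * a⁻¹ * a := by group
  rw [h5]
  exact mul_mem (mem_sup_right h4) (mem_sup_left ha)

/-- **(Q)**, the form of `RF.End` -/
theorem qpv [Finite M] (O : Out (Pt π Zp H) (VV ρ π Zp (S : Subgroup G) P) (img π Zp)) :
    RF.End.QPV (S : Subgroup G) P H := by
  intro A hA hCA hAA hAV
  exact D.qp_of Q O (hA.trans D.o2CZ_le) (hAV.trans (centralizer_le D.ZV)) hCA hAA

omit Q in
/-- `A ≤ S₀`: an abelian normal subgroup `A ≤ O₂(C)` of `C` centralises `Zp` -/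
theorem le_cent_Zp (fieldV : ∀ s ∈ (S : Subgroup G), (∀ v ∈ zl (S : Subgroup G) P, cm s v ∈ Zp) →
    s ∈ centralizer (Zp : Set G)) {A : Subgroup G} (hA : A ≤ (S : Subgroup G))
    (hCA : CZ (S : Subgroup G) ≤ normalizer (A : Set G)) (hAA : A ≤ centralizer (A : Set G)) :
    A ≤ centralizer (Zp : Set G) := by
  intro b hb
  have hbS := hA hb
  by_cases h : ∀ v ∈ zl (S : Subgroup G) P, cm b v ∈ Zp
  · exact fieldV b hbS h
  push Not at h
  obtain ⟨v, hv, hw⟩ := h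
  -- `w = [b, v] ∈ A ∩ V - Zp`
  set w := cm b v with hwdef
  have hwA : w ∈ A := by
    have h2 := conj_mem_of_mem (hCA (D.VC hv)) (inv_mem hb)
    have e1 : w = b * (v * b⁻¹ * v⁻¹) := by rw [hwdef, cm_def]; group
    rw [e1]
    exact mul_mem hb h2
  have hwV : w ∈ zl (S : Subgroup G) P := by
    have e1 : w = (b * v * b⁻¹) * v⁻¹ := by rw [hwdef, cm_def]
    rw [e1]
    exact mul_mem (conj_mem_of_mem (D.PV (D.SP hbS)) hv) (inv_mem hv)
  have hw1 : e w 1 ≠ 0 := fun h0 => hw ((D.line w hwV).1 h0)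
  refine D.field b hbS fun z hz => ?_
  have hzV := D.ZV hz
  -- `z = [u, w] d`
  obtain ⟨u, hu, hAct⟩ := D.up2 (e z 0 * (e w 1)⁻¹)
  have huP : u ∈ P := D.SP (D.US hu)
  have he1 := D.e_cm hwV huP hAct
  set c := cm w u with hc
  have hcA : c ∈ A := by
    have e1 : c = w * (u * w⁻¹ * u⁻¹) := by rw [hc, cm_def]; group
    rw [e1]
    exact mul_mem hwA (conj_mem_of_mem (hCA (D.UC hu)) (inv_mem hwA))
  have hcV : c ∈ zl (S : Subgroup G) P := by
    have e1 : c = w * (u * w⁻¹ * u⁻¹) := by rw [hc, cm_def]; group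
    rw [e1]
    exact mul_mem hwV (conj_mem_of_mem (D.PV huP) (inv_mem hwV))
  have hec : e c = e z := by
    rw [he1]
    funext i
    fin_cases i
    · change e z 0 * (e w 1)⁻¹ * e w 1 = e z 0
      rw [mul_assoc, inv_mul_cancel₀ hw1, mul_one]
    · exact ((D.line z hzV).2 hz).symm
  have hd : c * z ∈ Dp := by
    rw [← D.ker _ (mul_mem hcV hzV), D.mul c hcV z hzV, hec, ← D.mul z hzV z hzV, D.sqV hzV]
    exact (D.ker 1 (one_mem _)).2 (one_mem _)
  have hbP := D.SP hbS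
  have hbc : b * c * b⁻¹ = c := by
    rw [← mem_centralizer_iff.1 (hAA hb) c hcA, mul_inv_cancel_right]
  have hcc : c * c = 1 := D.sqV hcV
  have e2 : b * z * b⁻¹ = c * (b * (c * z) * b⁻¹) := by
    calc b * z * b⁻¹ = b * (c * c) * z * b⁻¹ := by rw [hcc]; group
      _ = (b * c * b⁻¹) * (b * (c * z) * b⁻¹) := by group
      _ = c * (b * (c * z) * b⁻¹) := by rw [hbc]
  have hd' : b * (c * z) * b⁻¹ ∈ Dp := conj_mem_of_mem (D.PD hbP) hd
  have hd'V := D.ZV (D.DZ hd')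
  rw [e2, D.mul c hcV _ hd'V, (D.ker _ hd'V).2 hd', add_zero, hec]

/-- **(Q)** -/
theorem qp [Finite M] (fieldV : ∀ s ∈ (S : Subgroup G), (∀ v ∈ zl (S : Subgroup G) P, cm s v ∈ Zp) →
    s ∈ centralizer (Zp : Set G))
    (O : Out (Pt π Zp H) (VV ρ π Zp (S : Subgroup G) P) (img π Zp)) : RA.End.QP (S : Subgroup G) P H := by
  intro A hA hCA hAA
  have hAS := hA.trans D.o2CZ_le
  exact D.qp_of Q O hAS (D.le_cent_Zp fieldV hAS hCA hAA) hCA hAA

end HypF

end Cfsg.Agent.Omega.NOThreeL.RFEnd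

end

end
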