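import Cfsg.Agent.Mrg.Omega.NOThreeL.RA.Pair
import Cfsg.Agent.Mrg.Omega.NOThreeL.RA.End
import Cfsg.Agent.Mrg.Omega.NOThreeL.RA.Pts
import Cfsg.Agent.Mrg.Omega.NOThreeL.RBig.Sym

section


/-!
# NO-3L, `R ∩ (A)`, one natural factor, `|Z/E| = q` (#19087): (3), group level

`VO S P H h = ⟨V^k : k ∈ H, Z^k R = Z^h R⟩` : the group of the lines over the point `Z^h R / R`.

* `HypQ.comm_over` : `Z^h R = Z^k R` implies `[V^h, V^k] = 1`; `HypQ.VO_comm`, `HypQ.VO_le_S`, `HypQ.VO_two`;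
* **`HypQ.bij`** : (3)(b): `w ∈ VO h`, `Z^h ≰ Y^k`, `x ∈ Z^k - F`, `[w, x] ∈ R` implies `[w, Z^k] ≤ R`.
-/

set_option autoImplicit false
set_option linter.unusedSectionVars false

namespace Cfsg.Agent.Omega.NOThreeL.RA

open Subgroup Cfsg Cfsg.Agent.Omega.MinPar
open Cfsg.Agent.ZN (zc zl o2)
open Cfsg.Agent.Omega.Frame Cfsg.Agent.Omega.FrameNOFF
open Cfsg.Agent.Omega.Node.NO3L Cfsg.Agent.Omega.NOThreeL.Basic
open Cfsg.Agent.Omega.NoFF.Basic (conj_conj mem_conj conj_le_iff conj_le_centralizer comm_symm comm_mono)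
open Cfsg.Agent.Omega.NOThreeL.Pair (conj_eq_of_mem conj_le_normalizer zl_abel)
open Cfsg.Agent.MinSimple.VModule (zl_le zc_le_zl le_normalizer_zl zc_le o2_isPGroup le_normalizer_o2 le_o2
  normalizer_le_normalizer_zc)
open Cfsg.Agent.Omega.NOThreeL (mem_normalizer_of_conj_eq le_normalizer_of mem_sup_of_comm)
open Cfsg.Agent.Omega.NOThreeL.RTools (cm cm_def cm_mul NN conj_mem_of_mem conj_le_NN le_NN NN_le le_normalizer_NN
  le_sup_inf isLong)
open Cfsg.Agent.Omega.NOThreeL.AOne (Act)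
open scoped Pointwise

universe u

variable {G : Type u} [Group G]

/-- `{n ∈ C(R) : [n, Z] ≤ R}` -/
def Ca (Z R : Subgroup G) : Subgroup G where
  carrier := {n | n ∈ centralizer (R : Set G) ∧ ∀ z ∈ Z, cm n z ∈ R}
  one_mem' := ⟨one_mem _, fun z _ => by
    have : cm 1 z = 1 := by rw [cm_def]; group
    rw [this]; exact one_mem _⟩
  mul_mem' := by
    rintro a b ⟨ha, ha'⟩ ⟨hb, hb'⟩
    refine ⟨mul_mem ha hb, fun z hz => ?_⟩
    have e : cm (a * b) z = (a * cm b z * a⁻¹) * cm a z := by simp only [cm_def]; group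
    have e2 : a * cm b z * a⁻¹ = cm b z := by
      rw [← mem_centralizer_iff.1 ha _ (hb' z hz), mul_inv_cancel_right]
    rw [e, e2]
    exact mul_mem (hb' z hz) (ha' z hz)
  inv_mem' := by
    rintro a ⟨ha, ha'⟩
    refine ⟨inv_mem ha, fun z hz => ?_⟩
    have e : cm a⁻¹ z = a⁻¹ * (cm a z)⁻¹ * a := by simp only [cm_def]; group
    have e2 : a⁻¹ * (cm a z)⁻¹ * a = (cm a z)⁻¹ := by
      rw [mul_assoc, mem_centralizer_iff.1 ha _ (inv_mem (ha' z hz)), inv_mul_cancel_left]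
    rw [e, e2]
    exact inv_mem (ha' z hz)

theorem mem_Ca {Z R : Subgroup G} {n : G} :
    n ∈ Ca Z R ↔ n ∈ centralizer (R : Set G) ∧ ∀ z ∈ Z, cm n z ∈ R := Iff.rfl

theorem Ca_le {Z Z' R : Subgroup G} (hR : Z ≤ normalizer (R : Set G)) (h : Z' ≤ Z ⊔ R) : Ca Z R ≤ Ca Z' R := by
  rintro n ⟨hn, hn'⟩
  refine ⟨hn, fun z hz => ?_⟩
  obtain ⟨a, ha, b, hb, rfl⟩ := End.exists_mul_of_mem_sup hR (h hz)
  have e : cm n (a * b) = cm n a * (a * (n * b * n⁻¹ * b⁻¹) * a⁻¹) := by simp only [cm_def]; group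
  have e2 : n * b * n⁻¹ * b⁻¹ = 1 := by
    rw [← mem_centralizer_iff.1 hn b hb, mul_inv_cancel_right, mul_inv_cancel]
  rw [e, e2, mul_one, mul_inv_cancel, mul_one]
  exact hn' a ha

/-- The group of the lines over the point `Z^h R / R`. -/
def VO (S P H : Subgroup G) (h : G) : Subgroup G :=
  ⨆ k ∈ {k : G | k ∈ H ∧ MulAut.conj k • zc S ⊔ Rr S P H = MulAut.conj h • zc S ⊔ Rr S P H},
    MulAut.conj k • zl S P

theorem le_of_normalized [Finite G] (S : Sylow 2 G) {O : Subgroup G} (hO : IsPGroup 2 O) {h : G}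
    (hn : MulAut.conj h • (S : Subgroup G) ≤ normalizer (O : Set G)) : O ≤ MulAut.conj h • (S : Subgroup G) := by
  have : Fact (Nat.Prime 2) := ⟨Nat.prime_two⟩
  have e : ((h • S : Sylow 2 G) : Subgroup G) = MulAut.conj h • (S : Subgroup G) := rfl
  rw [← e] at hn ⊢
  have h1 : IsPGroup 2 (((h • S : Sylow 2 G) : Subgroup G) ⊔ O : Subgroup G) :=
    IsPGroup.to_sup_of_normal_right' (h • S).isPGroup' hO hn
  have h2 := (h • S).is_maximal' h1 le_sup_left
  exact (le_sup_right : O ≤ ((h • S : Sylow 2 G) : Subgroup G) ⊔ O).trans h2.le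

namespace HypQ

variable [Finite G] {F : Type} [Field F] {e : G → Fin 2 → F} {S : Sylow 2 G} {P H : Subgroup G} (D : HypQ e S P H)
include D

theorem NN_cent_R : NN (S : Subgroup G) P H ≤ centralizer (Rr (S : Subgroup G) P H : Set G) := by
  rw [le_centralizer_iff]
  exact inf_le_right

theorem Z_norm_R {h : G} (hh : h ∈ H) :
    MulAut.conj h • zc (S : Subgroup G) ≤ normalizer (Rr (S : Subgroup G) P H : Set G) := by
  refine ((conjZ_le_V (P := P) h).trans ?_).trans (D.NN_cent_R.trans (centralizer_le_normalizer _))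
  exact conj_le_NN hh

/-- `CC_h = {n ∈ N : [n, Z^h] ≤ R}` is normalised by `g ∈ H` with `[g, Z^h] = 1` -/
theorem CC_norm {h : G} (hh : h ∈ H) : MulAut.conj h • (S : Subgroup G) ≤
    normalizer ((NN (S : Subgroup G) P H ⊓ Ca (MulAut.conj h • zc (S : Subgroup G)) (Rr (S : Subgroup G) P H) :
      Subgroup G) : Set G) := by
  refine le_normalizer_of fun g hg n hn => ?_
  have hgH : g ∈ H := by
    have h1 := (conj_le_iff (g := h)).2 D.SH
    rw [conj_eq_of_mem (Subgroup.le_normalizer hh)] at h1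
    exact h1 hg
  obtain ⟨hn1, hn2, hn3⟩ := mem_inf.1 hn
  have hRg := D.HR hgH
  refine mem_inf.2 ⟨conj_mem_of_mem (le_normalizer_NN _ _ _ hgH) hn1, ?_, fun z hz => ?_⟩
  · exact D.NN_cent_R (conj_mem_of_mem (le_normalizer_NN _ _ _ hgH) hn1)
  · -- `g` centralises `Z^h`
    have hgz : g * z = z * g := by
      rw [mem_conj] at hg hz
      have h2 := (Cfsg.Agent.MinSimple.VModule.mem_zc.1 hz).2.1 _ hg
      calc g * z = h * ((h⁻¹ * g * h) * (h⁻¹ * z * h)) * h⁻¹ := by group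
        _ = h * ((h⁻¹ * z * h) * (h⁻¹ * g * h)) * h⁻¹ := by rw [h2]
        _ = z * g := by group
    have e1 : cm (g * n * g⁻¹) z = g * cm n z * g⁻¹ := by
      have h3 : g⁻¹ * z * g = z := by rw [mul_assoc, ← hgz, inv_mul_cancel_left]
      calc cm (g * n * g⁻¹) z = g * (n * (g⁻¹ * z * g) * n⁻¹ * (g⁻¹ * z * g)⁻¹) * g⁻¹ := by
            simp only [cm_def]; group
        _ = _ := by rw [h3, cm_def]
    rw [e1]
    exact conj_mem_of_mem hRg (hn3 z hz)

/-- `O₂(CC_h) ≤ S^h` -/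
theorem o2CC_le {h : G} (hh : h ∈ H) :
    o2 (NN (S : Subgroup G) P H ⊓ Ca (MulAut.conj h • zc (S : Subgroup G)) (Rr (S : Subgroup G) P H)) ≤
      MulAut.conj h • (S : Subgroup G) :=
  le_of_normalized S (o2_isPGroup _) ((D.CC_norm hh).trans (Cfsg.Agent.Omega.normalizer_le_normalizer_o2' _))

theorem V_le_Ca {h : G} (hh : h ∈ H) : MulAut.conj h • zl (S : Subgroup G) P ≤
    NN (S : Subgroup G) P H ⊓ Ca (MulAut.conj h • zc (S : Subgroup G)) (Rr (S : Subgroup G) P H) := by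
  intro a ha
  have h1 := conj_le_NN hh ha
  refine mem_inf.2 ⟨h1, D.NN_cent_R h1, fun z hz => ?_⟩
  have h2 : cm a z = 1 := by
    rw [cm_eq_one]
    have hz' := conjZ_le_V (P := P) h hz
    rw [mem_conj] at ha hz'
    have h3 := D.commV ha hz'
    calc a * z = h * ((h⁻¹ * a * h) * (h⁻¹ * z * h)) * h⁻¹ := by group
      _ = h * ((h⁻¹ * z * h) * (h⁻¹ * a * h)) * h⁻¹ := by rw [h3]
      _ = z * a := by group
  rw [h2]
  exact one_mem _

/-- an element moving `x` by an element of `R` normalises `C_N(x)` -/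
theorem norm_cent {x n : G} (hn : n ∈ NN (S : Subgroup G) P H) (h : cm n x ∈ Rr (S : Subgroup G) P H) :
    n ∈ normalizer ((NN (S : Subgroup G) P H ⊓ centralizer ({x} : Set G) : Subgroup G) : Set G) := by
  have key : ∀ {n : G}, n ∈ NN (S : Subgroup G) P H → cm n x ∈ Rr (S : Subgroup G) P H →
      ∀ m ∈ NN (S : Subgroup G) P H ⊓ centralizer ({x} : Set G),
        n⁻¹ * m * n ∈ NN (S : Subgroup G) P H ⊓ centralizer ({x} : Set G) := by
    intro n hn h m hm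
    obtain ⟨hm1, hm2⟩ := mem_inf.1 hm
    refine mem_inf.2 ⟨mul_mem (mul_mem (inv_mem hn) hm1) hn, ?_⟩
    rw [mem_centralizer_singleton_iff] at hm2 ⊢
    -- `n x n⁻¹ = r x`
    have h1 : m * cm n x = cm n x * m := (mem_centralizer_iff.1 (D.NN_cent_R hm1) _ h).symm
    have e1 : n * x * n⁻¹ = cm n x * x := by rw [cm_def]; group
    calc n⁻¹ * m * n * x = n⁻¹ * (m * (n * x * n⁻¹)) * n := by group
      _ = n⁻¹ * ((m * cm n x) * x) * n := by rw [e1, mul_assoc m]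
      _ = n⁻¹ * (cm n x * (m * x)) * n := by rw [h1, mul_assoc (cm n x)]
      _ = n⁻¹ * ((cm n x * x) * m) * n := by rw [hm2, mul_assoc (cm n x)]
      _ = x * (n⁻¹ * m * n) := by rw [← e1]; group
  have h' : cm n⁻¹ x ∈ Rr (S : Subgroup G) P H := by
    have e1 : cm n⁻¹ x = n⁻¹ * (cm n x)⁻¹ * n := by simp only [cm_def]; group
    have e2 : n⁻¹ * (cm n x)⁻¹ * n = (cm n x)⁻¹ := by
      rw [mul_assoc, mem_centralizer_iff.1 (D.NN_cent_R hn) _ (inv_mem h), inv_mul_cancel_left]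
    rw [e1, e2]
    exact inv_mem h
  rw [mem_normalizer_iff]
  refine fun m => ⟨fun hm => ?_, fun hm => ?_⟩
  · have := key (inv_mem hn) h' m hm
    rwa [inv_inv] at this
  · have := key hn h _ hm
    have e1 : n⁻¹ * (n * m * n⁻¹) * n = m := by group
    rwa [e1] at this

/-- `x ∈ Z^h - F`: `V^h ≤ O₂(C_N(x))` -/
theorem V_le_o2N {h x : G} (hh : h ∈ H) (hx : x ∈ MulAut.conj h • zc (S : Subgroup G))
    (hxF : x ∉ Fc (S : Subgroup G) H) :
    MulAut.conj h • zl (S : Subgroup G) P ≤ o2 (NN (S : Subgroup G) P H ⊓ centralizer ({x} : Set G)) := by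
  have h1 := D.min_o2 hh hx hxF
  have h2 : o2 (H ⊓ centralizer ({x} : Set G)) ⊓ NN (S : Subgroup G) P H ≤
      o2 (NN (S : Subgroup G) P H ⊓ centralizer ({x} : Set G)) := by
    refine le_o2 ?_ ((o2_isPGroup _).to_le inf_le_left) ?_
    · exact le_inf inf_le_right (inf_le_left.trans ((Cfsg.Agent.MinSimple.VModule.o2_le _).trans inf_le_right))
    · refine le_normalizer_of fun g hg y hy => ?_
      obtain ⟨hg1, hg2⟩ := mem_inf.1 hg
      obtain ⟨hy1, hy2⟩ := mem_inf.1 hy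
      exact mem_inf.2 ⟨conj_mem_of_mem (le_normalizer_o2 _ (mem_inf.2 ⟨D.NN_le_H hg1, hg2⟩)) hy1,
        mul_mem (mul_mem hg1 hy2) (inv_mem hg1)⟩
  exact (le_inf h1 (conj_le_NN hh)).trans h2

/-- `V^h ≤ O₂(CC_h)` -/
theorem V_le_o2CC {h : G} (hh : h ∈ H) : MulAut.conj h • zl (S : Subgroup G) P ≤
    o2 (NN (S : Subgroup G) P H ⊓ Ca (MulAut.conj h • zc (S : Subgroup G)) (Rr (S : Subgroup G) P H)) := by
  obtain ⟨x, hx, hxF⟩ := D.Z_not_F hh
  set CC := NN (S : Subgroup G) P H ⊓ Ca (MulAut.conj h • zc (S : Subgroup G)) (Rr (S : Subgroup G) P H) with hCC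
  set K := NN (S : Subgroup G) P H ⊓ centralizer ({x} : Set G) with hK
  have hn : CC ≤ normalizer (K : Set G) := fun n hn =>
    D.norm_cent (mem_inf.1 hn).1 ((mem_inf.1 hn).2.2 x hx)
  have h1 : o2 K ⊓ CC ≤ o2 CC := by
    refine le_o2 inf_le_right ((o2_isPGroup _).to_le inf_le_left) ?_
    refine le_normalizer_of fun g hg y hy => ?_
    exact mem_inf.2 ⟨conj_mem_of_mem (Cfsg.Agent.Omega.normalizer_le_normalizer_o2' _ (hn hg)) (mem_inf.1 hy).1,
      mul_mem (mul_mem hg (mem_inf.1 hy).2) (inv_mem hg)⟩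
  exact (le_inf (D.V_le_o2N hh hx hxF) (D.V_le_Ca hh)).trans h1

theorem CC_eq {h k : G} (hh : h ∈ H) (hk : k ∈ H)
    (hp : MulAut.conj k • zc (S : Subgroup G) ⊔ Rr (S : Subgroup G) P H =
      MulAut.conj h • zc (S : Subgroup G) ⊔ Rr (S : Subgroup G) P H) :
    Ca (MulAut.conj k • zc (S : Subgroup G)) (Rr (S : Subgroup G) P H) =
      Ca (MulAut.conj h • zc (S : Subgroup G)) (Rr (S : Subgroup G) P H) :=
  le_antisymm (Ca_le (D.Z_norm_R hk) (hp ▸ le_sup_left)) (Ca_le (D.Z_norm_R hh) (hp ▸ le_sup_left))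

/-- **(3)** the lines over a point commute -/
theorem comm_over {h k : G} (hh : h ∈ H) (hk : k ∈ H)
    (hp : MulAut.conj k • zc (S : Subgroup G) ⊔ Rr (S : Subgroup G) P H =
      MulAut.conj h • zc (S : Subgroup G) ⊔ Rr (S : Subgroup G) P H) :
    MulAut.conj h • zl (S : Subgroup G) P ≤
      centralizer ((MulAut.conj k • zl (S : Subgroup G) P : Subgroup G) : Set G) := by
  have D' := Basic.geo D.hc D.data
  have h1 := D.V_le_o2CC hh
  have h2 := D.V_le_o2CC hk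
  have h3 := D.o2CC_le hh
  have h4 := D.o2CC_le hk
  rw [D.CC_eq hh hk hp] at h2 h4
  exact D'.noff' D.par D.par ((h1.trans h4).trans (conj_le_iff.2 D.SP)) ((h2.trans h3).trans (conj_le_iff.2 D.SP))

theorem V_le_VO {h k : G} (hk : k ∈ H) (hp : MulAut.conj k • zc (S : Subgroup G) ⊔ Rr (S : Subgroup G) P H =
      MulAut.conj h • zc (S : Subgroup G) ⊔ Rr (S : Subgroup G) P H) :
    MulAut.conj k • zl (S : Subgroup G) P ≤ VO (S : Subgroup G) P H h :=
  le_iSup₂_of_le (f := fun k (_ : k ∈ {k : G | k ∈ H ∧ MulAut.conj k • zc (S : Subgroup G) ⊔ Rr (S : Subgroup G) P H =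
    MulAut.conj h • zc (S : Subgroup G) ⊔ Rr (S : Subgroup G) P H}) => MulAut.conj k • zl (S : Subgroup G) P) k
    ⟨hk, hp⟩ le_rfl

theorem VO_le {h : G} {A : Subgroup G} (hA : ∀ k ∈ H, MulAut.conj k • zc (S : Subgroup G) ⊔ Rr (S : Subgroup G) P H =
      MulAut.conj h • zc (S : Subgroup G) ⊔ Rr (S : Subgroup G) P H → MulAut.conj k • zl (S : Subgroup G) P ≤ A) :
    VO (S : Subgroup G) P H h ≤ A := iSup₂_le fun k hk => hA k hk.1 hk.2

theorem VO_le_NN {h : G} : VO (S : Subgroup G) P H h ≤ NN (S : Subgroup G) P H :=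
  D.VO_le fun _ hk _ => conj_le_NN hk

/-- `V^_p` is in `O₂(CC_h)` -/
theorem VO_le_o2CC {h : G} (hh : h ∈ H) : VO (S : Subgroup G) P H h ≤
    o2 (NN (S : Subgroup G) P H ⊓ Ca (MulAut.conj h • zc (S : Subgroup G)) (Rr (S : Subgroup G) P H)) :=
  D.VO_le fun k hk hp => by
    have h1 := D.V_le_o2CC hk
    rwa [D.CC_eq hh hk hp] at h1

theorem VO_le_S {h : G} (hh : h ∈ H) : VO (S : Subgroup G) P H h ≤ MulAut.conj h • (S : Subgroup G) :=
  (D.VO_le_o2CC hh).trans (D.o2CC_le hh)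

theorem VO_two {h : G} (hh : h ∈ H) : IsPGroup 2 (VO (S : Subgroup G) P H h) :=
  (o2_isPGroup _).to_le (D.VO_le_o2CC hh)

/-- **(3)** `V^_p` is abelian -/
theorem VO_comm {h : G} (_hh : h ∈ H) :
    VO (S : Subgroup G) P H h ≤ centralizer (VO (S : Subgroup G) P H h : Set G) :=
  D.VO_le fun _ hk hp => comm_symm (D.VO_le fun _ hl hp' => comm_symm (D.comm_over hk hl (hp'.trans hp.symm)))

/-- `V^_p` centralises `Z^h R` -/
theorem VO_cent {h w x : G} (_hh : h ∈ H) (hw : w ∈ VO (S : Subgroup G) P H h)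
    (hx : x ∈ MulAut.conj h • zc (S : Subgroup G) ⊔ Rr (S : Subgroup G) P H) : w * x = x * w := by
  have h1 : VO (S : Subgroup G) P H h ≤
      centralizer ((MulAut.conj h • zc (S : Subgroup G) ⊔ Rr (S : Subgroup G) P H : Subgroup G) : Set G) := by
    refine D.VO_le fun k hk hp => ?_
    rw [← hp, le_centralizer_iff]
    refine sup_le ?_ ?_
    · rw [← le_centralizer_iff]
      have h2 := conj_le_centralizer (g := k) ((zl_abel D.hc S D.par.isLoc).1)
      exact h2.trans (centralizer_le (conjZ_le_V k))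
    · rw [← le_centralizer_iff]
      exact (conj_le_NN hk).trans D.NN_cent_R
  exact (mem_centralizer_iff.1 (h1 hw) x hx).symm

/-- the exponent of `V^_p` -/
theorem VO_sq {h w : G} (hh : h ∈ H) (hw : w ∈ VO (S : Subgroup G) P H h) : w * w = 1 := by
  have hab : ∀ {a b : G}, a ∈ VO (S : Subgroup G) P H h → b ∈ VO (S : Subgroup G) P H h → a * b = b * a :=
    fun ha hb => (mem_centralizer_iff.1 (D.VO_comm hh ha) _ hb).symm
  rw [VO, iSup_subtype', iSup_eq_closure] at hw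
  have key : ∀ w ∈ closure (⋃ i : {k : G | k ∈ H ∧ MulAut.conj k • zc (S : Subgroup G) ⊔ Rr (S : Subgroup G) P H =
      MulAut.conj h • zc (S : Subgroup G) ⊔ Rr (S : Subgroup G) P H},
      ((MulAut.conj (i : G) • zl (S : Subgroup G) P : Subgroup G) : Set G)),
      w ∈ VO (S : Subgroup G) P H h ∧ w * w = 1 := by
    intro w hw
    induction hw using closure_induction with
    | mem x hx =>
      obtain ⟨⟨k, hk⟩, hx⟩ := Set.mem_iUnion.1 hx
      refine ⟨D.V_le_VO hk.1 hk.2 hx, ?_⟩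
      have hx' : x ∈ MulAut.conj k • zl (S : Subgroup G) P := hx
      rw [mem_conj] at hx'
      have h1 := D.sqV hx'
      calc x * x = k * ((k⁻¹ * x * k) * (k⁻¹ * x * k)) * k⁻¹ := by group
        _ = 1 := by rw [h1]; group
    | one => exact ⟨one_mem _, one_mul _⟩
    | mul a b _ _ ha hb =>
      refine ⟨mul_mem ha.1 hb.1, ?_⟩
      calc a * b * (a * b) = a * (b * a) * b := by group
        _ = (a * a) * (b * b) := by rw [← hab ha.1 hb.1]; group
        _ = 1 := by rw [ha.2, hb.2, one_mul]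
    | inv a _ ha =>
      refine ⟨inv_mem ha.1, ?_⟩
      rw [← mul_inv_rev, ha.2, inv_one]
  exact (key w hw).2

/-- `[V^_p, U] ≤ Z^h R` -/
theorem VO_cm {h w u : G} (hh : h ∈ H) (hw : w ∈ VO (S : Subgroup G) P H h) (hu : u ∈ zl (S : Subgroup G) H) :
    cm w u ∈ MulAut.conj h • zc (S : Subgroup G) ⊔ Rr (S : Subgroup G) P H := by
  set B := MulAut.conj h • zc (S : Subgroup G) ⊔ Rr (S : Subgroup G) P H with hB
  let X : Subgroup G :=
    { carrier := {w | w ∈ VO (S : Subgroup G) P H h ∧ ∀ u ∈ zl (S : Subgroup G) H, cm w u ∈ B}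
      one_mem' := ⟨one_mem _, fun u _ => by
        have : cm 1 u = 1 := by rw [cm_def]; group
        rw [this]; exact one_mem _⟩
      mul_mem' := by
        rintro a b ⟨ha, ha'⟩ ⟨hb, hb'⟩
        refine ⟨mul_mem ha hb, fun u hu => ?_⟩
        have e : cm (a * b) u = (a * cm b u * a⁻¹) * cm a u := by simp only [cm_def]; group
        have e2 : a * cm b u * a⁻¹ = cm b u := by
          rw [D.VO_cent hh ha (hb' u hu), mul_inv_cancel_right]
        rw [e, e2]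
        exact mul_mem (hb' u hu) (ha' u hu)
      inv_mem' := by
        rintro a ⟨ha, ha'⟩
        refine ⟨inv_mem ha, fun u hu => ?_⟩
        have e : cm a⁻¹ u = a⁻¹ * (cm a u)⁻¹ * a := by simp only [cm_def]; group
        have e2 : a⁻¹ * (cm a u)⁻¹ * a = (cm a u)⁻¹ := by
          rw [mul_assoc, ← D.VO_cent hh ha (inv_mem (ha' u hu)), inv_mul_cancel_left]
        rw [e, e2]
        exact inv_mem (ha' u hu) }
  have h1 : VO (S : Subgroup G) P H h ≤ X := D.VO_le fun k hk hp a ha => ⟨D.V_le_VO hk hp ha, fun u hu => by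
    rw [hB, ← hp]
    exact mem_sup_left (D.cm_conj hk ha hu)⟩
  exact (h1 hw).2 u hu

/-- **(3)(b)** -/
theorem bij {h k w x : G} (hh : h ∈ H) (hk : k ∈ H)
    (hY : ¬ MulAut.conj h • zc (S : Subgroup G) ≤ MulAut.conj k • Yy (S : Subgroup G) P H)
    (hw : w ∈ VO (S : Subgroup G) P H h) (hx : x ∈ MulAut.conj k • zc (S : Subgroup G))
    (hxF : x ∉ Fc (S : Subgroup G) H) (hwx : cm w x ∈ Rr (S : Subgroup G) P H) :
    ∀ y ∈ MulAut.conj k • zc (S : Subgroup G), cm w y ∈ Rr (S : Subgroup G) P H := by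
  intro y hy
  by_contra hc
  have hyU := D.conjZ_le hk hy
  have hwN := D.VO_le_NN hw
  have hwH := D.NN_le_H hwN
  -- some line `V^l` over `p` moves `y`
  obtain ⟨l, hl, hlp, hly⟩ : ∃ l ∈ H, MulAut.conj l • zc (S : Subgroup G) ⊔ Rr (S : Subgroup G) P H =
      MulAut.conj h • zc (S : Subgroup G) ⊔ Rr (S : Subgroup G) P H ∧
      ¬ MulAut.conj k • zc (S : Subgroup G) ≤ MulAut.conj l • Yy (S : Subgroup G) P H := by
    by_contra hcon
    push Not at hcon
    apply hc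
    have h1 : VO (S : Subgroup G) P H h ≤ centralizer ({y} : Set G) := D.VO_le fun l hl hlp a ha => by
      rw [mem_centralizer_singleton_iff]
      exact D.Y_comm ha (hcon l hl hlp hy)
    have h2 : cm w y = 1 := cm_eq_one.2 (mem_centralizer_singleton_iff.1 (h1 hw))
    rw [h2]
    exact one_mem _
  -- `Z^l ≰ Y^k`
  have hlY : ¬ MulAut.conj l • zc (S : Subgroup G) ≤ MulAut.conj k • Yy (S : Subgroup G) P H := fun h1 => hY (by
    have h2 : MulAut.conj l • zc (S : Subgroup G) ⊔ Rr (S : Subgroup G) P H ≤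
        MulAut.conj k • Yy (S : Subgroup G) P H := sup_le h1 (D.R_le_Y hk)
    rw [hlp] at h2
    exact le_sup_left.trans h2)
  have ho : Opp (S : Subgroup G) P l k := by
    by_contra hno
    rcases D.pair hl hk hno with h1 | h1
    · exact hlY h1
    · exact hly h1
  -- `c = [w, y] ∉ Y^k`
  have hcB := D.VO_cm hh hw hyU
  set c := cm w y with hcdef
  have hcU : c ∈ zl (S : Subgroup G) H := (sup_le (D.conjZ_le hh) D.RU) hcB
  have hcY : c ∉ MulAut.conj k • Yy (S : Subgroup G) P H := by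
    intro h1
    rw [← hlp] at hcB
    obtain ⟨a, ha, b, hb, hab⟩ := End.exists_mul_of_mem_sup (D.Z_norm_R hl) hcB
    apply hc
    have h2 : a ∈ MulAut.conj k • Yy (S : Subgroup G) P H := by
      have h3 : a = c * b⁻¹ := by rw [hab, mul_inv_cancel_right]
      rw [h3]
      exact mul_mem h1 (inv_mem (D.R_le_Y hk hb))
    have h4 := D.inf_F hl hk ho ha h2
    rw [hab]
    refine mul_mem ?_ hb
    have h5 := D.R_inf_Z
    have h6 : a ∈ Rr (S : Subgroup G) P H ⊓ zc (S : Subgroup G) := by rw [h5]; exact h4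
    exact (mem_inf.1 h6).1
  -- `b ∈ V^k` with `[b, c] = y` modulo `F`
  obtain ⟨b, hb, hbc⟩ := D.exists_cm hk hcU hcY hy
  -- `w b` is a 2-element
  have : Fact (Nat.Prime 2) := ⟨Nat.prime_two⟩
  have hB2 : MulAut.conj k • zl (S : Subgroup G) P ≤ o2 (NN (S : Subgroup G) P H ⊓ centralizer ({x} : Set G)) :=
    D.V_le_o2N hk hx hxF
  have hwn : zpowers w ≤ normalizer ((o2 (NN (S : Subgroup G) P H ⊓ centralizer ({x} : Set G)) : Subgroup G) :
      Set G) := by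
    rw [zpowers_le]
    exact Cfsg.Agent.Omega.normalizer_le_normalizer_o2' _ (D.norm_cent hwN hwx)
  have hw2 : IsPGroup 2 (zpowers w) :=
    (D.VO_two hh).to_le (zpowers_le.2 hw)
  have hJ := IsPGroup.to_sup_of_normal_right' hw2 (o2_isPGroup (NN (S : Subgroup G) P H ⊓ centralizer ({x} : Set G))) hwn
  have hXJ : w * b ∈ zpowers w ⊔ o2 (NN (S : Subgroup G) P H ⊓ centralizer ({x} : Set G)) :=
    mul_mem (mem_sup_left (mem_zpowers w)) (mem_sup_right (hB2 hb))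
  obtain ⟨n, hn⟩ := hJ ⟨w * b, hXJ⟩
  have hn' : (w * b) ^ 2 ^ n = 1 := by
    have := congrArg Subtype.val hn
    simpa using this
  -- the action on `y`, `c`
  obtain ⟨f, hf, hfe⟩ : ∃ f ∈ Fc (S : Subgroup G) H, cm b c = f * y⁻¹ := ⟨cm b c * y, hbc, by group⟩
  have hbH : b ∈ H := D.NN_le_H (conj_le_NN hk hb)
  have hfH : ∀ {g : G}, g ∈ H → g * f = f * g := fun hg => mem_centralizer_iff.1 (mem_inf.1 hf).2 _ hg
  have hfw := hfH hwH
  have hfb := hfH hbH
  have hyy : y * y = 1 := D.sqU hyU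
  have hcc : c * c = 1 := D.sqU hcU
  have hff : f * f = 1 := D.sqU (D.F_le_U hf)
  have hyi : y⁻¹ = y := D.inv_U hyU
  have hfy : y * f = f * y := hfH (D.SH (D.US hyU))
  have hfc : c * f = f * c := hfH (D.SH (D.US hcU))
  have hcy : c * y = y * c := D.commU hcU hyU
  have hwy : w * y * w⁻¹ = c * y := by rw [hcdef, cm_def]; group
  have hwc : w * c * w⁻¹ = c := by rw [D.VO_cent hh hw hcB, mul_inv_cancel_right]
  have hby : b * y * b⁻¹ = y := by
    have h1 : b * y = y * b := by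
      have hz' := conjZ_le_V (P := P) k hy
      have hb' := hb
      rw [mem_conj] at hb' hz'
      have h3 := D.commV hb' hz'
      calc b * y = k * ((k⁻¹ * b * k) * (k⁻¹ * y * k)) * k⁻¹ := by group
        _ = k * ((k⁻¹ * y * k) * (k⁻¹ * b * k)) * k⁻¹ := by rw [h3]
        _ = y * b := by group
    rw [h1, mul_inv_cancel_right]
  have hbc' : b * c * b⁻¹ = f * y * c := by
    have h1 : b * c * b⁻¹ = cm b c * c := by rw [cm_def]; group
    rw [h1, hfe, hyi]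
  have hXy : (w * b) * y * (w * b)⁻¹ = c * y := by
    calc (w * b) * y * (w * b)⁻¹ = w * (b * y * b⁻¹) * w⁻¹ := by group
      _ = _ := by rw [hby, hwy]
  have hXf : (w * b) * f * (w * b)⁻¹ = f := by
    rw [hfH (mul_mem hwH hbH), mul_inv_cancel_right]
  have hXc : (w * b) * c * (w * b)⁻¹ = f * y := by
    calc (w * b) * c * (w * b)⁻¹ = w * (b * c * b⁻¹) * w⁻¹ := by group
      _ = (w * f * w⁻¹) * (w * y * w⁻¹) * (w * c * w⁻¹) := by rw [hbc']; group
      _ = f * (c * y) * c := by rw [hfw, mul_inv_cancel_right, hwy, hwc]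
      _ = f * y * (c * c) := by rw [hcy]; group
      _ = f * y := by rw [hcc, mul_one]
  have hX3 : (w * b) ^ 3 * y * ((w * b) ^ 3)⁻¹ = y := by
    calc (w * b) ^ 3 * y * ((w * b) ^ 3)⁻¹
        = (w * b) * ((w * b) * ((w * b) * y * (w * b)⁻¹) * (w * b)⁻¹) * (w * b)⁻¹ := by
          rw [pow_succ, pow_succ, pow_one]; group
      _ = (w * b) * ((w * b) * (c * y) * (w * b)⁻¹) * (w * b)⁻¹ := by rw [hXy]
      _ = (w * b) * (((w * b) * c * (w * b)⁻¹) * ((w * b) * y * (w * b)⁻¹)) * (w * b)⁻¹ := by group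
      _ = (w * b) * ((f * y) * (y * c)) * (w * b)⁻¹ := by rw [hXc, hXy, hcy]
      _ = (w * b) * (f * (y * y) * c) * (w * b)⁻¹ := by simp only [mul_assoc]
      _ = ((w * b) * f * (w * b)⁻¹) * ((w * b) * c * (w * b)⁻¹) := by rw [hyy, mul_one]; group
      _ = (f * f) * y := by rw [hXf, hXc, mul_assoc]
      _ = y := by rw [hff, one_mul]
  have hX : w * b ∈ zpowers ((w * b) ^ 3) := by
    have h1 : ((w * b) ^ 3) ∈ zpowers (w * b) := pow_mem (mem_zpowers _) _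
    have h2 : Nat.Coprime 3 (orderOf (w * b)) := by
      refine Nat.Coprime.coprime_dvd_right (orderOf_dvd_of_pow_eq_one hn') ?_
      exact Nat.Coprime.pow_right n (by norm_num)
    obtain ⟨m, hm⟩ := exists_pow_eq_self_of_coprime h2
    have h3 := pow_mem (mem_zpowers ((w * b) ^ 3)) m
    rwa [hm] at h3
  have hX' : w * b ∈ centralizer ({y} : Set G) := by
    have h1 : (w * b) ^ 3 ∈ centralizer ({y} : Set G) := by
      rw [mem_centralizer_singleton_iff]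
      calc (w * b) ^ 3 * y = ((w * b) ^ 3 * y * ((w * b) ^ 3)⁻¹) * (w * b) ^ 3 := by group
        _ = y * (w * b) ^ 3 := by rw [hX3]
    exact (zpowers_le.2 h1) hX
  apply hc
  have h1 : c * y = y := by
    rw [← hXy, mem_centralizer_singleton_iff.1 hX', mul_inv_cancel_right]
  have h2 : c = 1 := by
    calc c = c * y * y⁻¹ := by group
      _ = 1 := by rw [h1, mul_inv_cancel]
  rw [h2]
  exact one_mem _

end HypQ

end Cfsg.Agent.Omega.NOThreeL.RA

end

section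


/-!
# NO-3L, `R ∩ (A)`, `k = 1`, nonsplit, fields (NsF), (f) END: (3), group level

`VO S P H Zp h = ⟨V^k : k ∈ H, Zp^k I = Zp^h I⟩` : the group of the lines over the point `Zp^h I / I`.

* `HypF.comm_over` : `Zp^h I = Zp^k I` implies `[V^h, V^k] = 1`; `HypF.VO_comm`, `HypF.VO_le_S`, `HypF.VO_two`;
* **`HypF.bij`** : (3)(b): `w ∈ VO h`, `Zp^h ≰ Y^k`, `x ∈ Zp^k - Rp`, `[w, x] ∈ I` implies `[w, Zp^k] ≤ I`.

The text is that of `RA/Over.lean`.
-/

set_option autoImplicit false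
set_option linter.unusedSectionVars false

namespace Cfsg.Agent.Omega.NOThreeL.RFEnd

open Subgroup Cfsg Cfsg.Agent.Omega.MinPar
open Cfsg.Agent.ZN (zc zl o2)
open Cfsg.Agent.Omega.Frame Cfsg.Agent.Omega.FrameNOFF
open Cfsg.Agent.Omega.Node.NO3L Cfsg.Agent.Omega.NOThreeL.Basic
open Cfsg.Agent.Omega.NoFF.Basic (conj_conj mem_conj conj_le_iff conj_le_centralizer comm_symm comm_mono)
open Cfsg.Agent.Omega.NOThreeL.Pair (conj_eq_of_mem conj_le_normalizer zl_abel)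
open Cfsg.Agent.MinSimple.VModule (zl_le zc_le_zl le_normalizer_zl zc_le o2_isPGroup le_normalizer_o2 le_o2
  normalizer_le_normalizer_zc)
open Cfsg.Agent.Omega.NOThreeL (mem_normalizer_of_conj_eq le_normalizer_of mem_sup_of_comm)
open Cfsg.Agent.Omega.NOThreeL.RTools (cm cm_def cm_mul NN conj_mem_of_mem conj_le_NN le_NN NN_le le_normalizer_NN
  le_sup_inf isLong)
open Cfsg.Agent.Omega.NOThreeL.AOne (Act)
open Cfsg.Agent.Omega.NOThreeL.RA (Yy Rr Opp Opp.symm Ca mem_Ca Ca_le le_of_normalized)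
open scoped Pointwise

universe u

variable {G : Type u} [Group G]

/-- The group of the lines over the point `Z^h R / R`. -/
def VO (S P H Zp : Subgroup G) (h : G) : Subgroup G :=
  ⨆ k ∈ {k : G | k ∈ H ∧ MulAut.conj k • Zp ⊔ Rr S P H = MulAut.conj h • Zp ⊔ Rr S P H},
    MulAut.conj k • zl S P

namespace HypF

variable [Finite G] {F : Type} [Field F] {e : G → Fin 2 → F} {S : Sylow 2 G} {P H Zp Rp Dp B : Subgroup G}
  (D : HypF e S P H Zp Rp Dp B)
include D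

theorem NN_cent_R : NN (S : Subgroup G) P H ≤ centralizer (Rr (S : Subgroup G) P H : Set G) := by
  rw [le_centralizer_iff]
  exact inf_le_right

theorem Z_norm_R {h : G} (hh : h ∈ H) :
    MulAut.conj h • Zp ≤ normalizer (Rr (S : Subgroup G) P H : Set G) := by
  refine ((D.conjZ_le_V h).trans ?_).trans (D.NN_cent_R.trans (centralizer_le_normalizer _))
  exact conj_le_NN hh

/-- `CC_h = {n ∈ N : [n, Zp^h] ≤ I}` is normalised by `S^h` -/
theorem CC_norm {h : G} (hh : h ∈ H) : MulAut.conj h • (S : Subgroup G) ≤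
    normalizer ((NN (S : Subgroup G) P H ⊓ Ca (MulAut.conj h • Zp) (Rr (S : Subgroup G) P H) :
      Subgroup G) : Set G) := by
  refine le_normalizer_of fun g hg n hn => ?_
  have hgH : g ∈ H := by
    have h1 := (conj_le_iff (g := h)).2 D.SH
    rw [conj_eq_of_mem (Subgroup.le_normalizer hh)] at h1
    exact h1 hg
  obtain ⟨hn1, hn2, hn3⟩ := mem_inf.1 hn
  have hRg := D.HR hgH
  refine mem_inf.2 ⟨conj_mem_of_mem (le_normalizer_NN _ _ _ hgH) hn1, ?_, fun z hz => ?_⟩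
  · exact D.NN_cent_R (conj_mem_of_mem (le_normalizer_NN _ _ _ hgH) hn1)
  · -- `g` normalises `Zp^h`
    have hgz : g⁻¹ * z * g ∈ MulAut.conj h • Zp := by
      rw [mem_conj] at hg hz ⊢
      have h2 := conj_mem_of_mem (D.BZ (D.SB (inv_mem hg))) hz
      have e1 : (h⁻¹ * g * h)⁻¹ * (h⁻¹ * z * h) * (h⁻¹ * g * h)⁻¹⁻¹ = h⁻¹ * (g⁻¹ * z * g) * h := by group
      rwa [e1] at h2
    have e1 : cm (g * n * g⁻¹) z = g * cm n (g⁻¹ * z * g) * g⁻¹ := by
      simp only [cm_def]; group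
    rw [e1]
    exact conj_mem_of_mem hRg (hn3 _ hgz)

/-- `O₂(CC_h) ≤ S^h` -/
theorem o2CC_le {h : G} (hh : h ∈ H) :
    o2 (NN (S : Subgroup G) P H ⊓ Ca (MulAut.conj h • Zp) (Rr (S : Subgroup G) P H)) ≤
      MulAut.conj h • (S : Subgroup G) :=
  le_of_normalized S (o2_isPGroup _) ((D.CC_norm hh).trans (Cfsg.Agent.Omega.normalizer_le_normalizer_o2' _))

theorem V_le_Ca {h : G} (hh : h ∈ H) : MulAut.conj h • zl (S : Subgroup G) P ≤
    NN (S : Subgroup G) P H ⊓ Ca (MulAut.conj h • Zp) (Rr (S : Subgroup G) P H) := by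
  intro a ha
  have h1 := conj_le_NN hh ha
  refine mem_inf.2 ⟨h1, D.NN_cent_R h1, fun z hz => ?_⟩
  have h2 : cm a z = 1 := by
    rw [cm_eq_one]
    have hz' := D.conjZ_le_V h hz
    rw [mem_conj] at ha hz'
    have h3 := D.commV ha hz'
    calc a * z = h * ((h⁻¹ * a * h) * (h⁻¹ * z * h)) * h⁻¹ := by group
      _ = h * ((h⁻¹ * z * h) * (h⁻¹ * a * h)) * h⁻¹ := by rw [h3]
      _ = z * a := by group
  rw [h2]
  exact one_mem _

/-- an element moving `x` by an element of `R` normalises `C_N(x)` -/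
theorem norm_cent {x n : G} (hn : n ∈ NN (S : Subgroup G) P H) (h : cm n x ∈ Rr (S : Subgroup G) P H) :
    n ∈ normalizer ((NN (S : Subgroup G) P H ⊓ centralizer ({x} : Set G) : Subgroup G) : Set G) := by
  have key : ∀ {n : G}, n ∈ NN (S : Subgroup G) P H → cm n x ∈ Rr (S : Subgroup G) P H →
      ∀ m ∈ NN (S : Subgroup G) P H ⊓ centralizer ({x} : Set G),
        n⁻¹ * m * n ∈ NN (S : Subgroup G) P H ⊓ centralizer ({x} : Set G) := by
    intro n hn h m hm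
    obtain ⟨hm1, hm2⟩ := mem_inf.1 hm
    refine mem_inf.2 ⟨mul_mem (mul_mem (inv_mem hn) hm1) hn, ?_⟩
    rw [mem_centralizer_singleton_iff] at hm2 ⊢
    -- `n x n⁻¹ = r x`
    have h1 : m * cm n x = cm n x * m := (mem_centralizer_iff.1 (D.NN_cent_R hm1) _ h).symm
    have e1 : n * x * n⁻¹ = cm n x * x := by rw [cm_def]; group
    calc n⁻¹ * m * n * x = n⁻¹ * (m * (n * x * n⁻¹)) * n := by group
      _ = n⁻¹ * ((m * cm n x) * x) * n := by rw [e1, mul_assoc m]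
      _ = n⁻¹ * (cm n x * (m * x)) * n := by rw [h1, mul_assoc (cm n x)]
      _ = n⁻¹ * ((cm n x * x) * m) * n := by rw [hm2, mul_assoc (cm n x)]
      _ = x * (n⁻¹ * m * n) := by rw [← e1]; group
  have h' : cm n⁻¹ x ∈ Rr (S : Subgroup G) P H := by
    have e1 : cm n⁻¹ x = n⁻¹ * (cm n x)⁻¹ * n := by simp only [cm_def]; group
    have e2 : n⁻¹ * (cm n x)⁻¹ * n = (cm n x)⁻¹ := by
      rw [mul_assoc, mem_centralizer_iff.1 (D.NN_cent_R hn) _ (inv_mem h), inv_mul_cancel_left]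
    rw [e1, e2]
    exact inv_mem h
  rw [mem_normalizer_iff]
  refine fun m => ⟨fun hm => ?_, fun hm => ?_⟩
  · have := key (inv_mem hn) h' m hm
    rwa [inv_inv] at this
  · have := key hn h _ hm
    have e1 : n⁻¹ * (n * m * n⁻¹) * n = m := by group
    rwa [e1] at this

/-- `V^h ≤ O₂(CC_h)` -/
theorem V_le_o2CC {h : G} (hh : h ∈ H) : MulAut.conj h • zl (S : Subgroup G) P ≤
    o2 (NN (S : Subgroup G) P H ⊓ Ca (MulAut.conj h • Zp) (Rr (S : Subgroup G) P H)) := by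
  obtain ⟨x, hx, hxF⟩ := D.Z_not_F hh
  set CC := NN (S : Subgroup G) P H ⊓ Ca (MulAut.conj h • Zp) (Rr (S : Subgroup G) P H) with hCC
  set K := NN (S : Subgroup G) P H ⊓ centralizer ({x} : Set G) with hK
  have hn : CC ≤ normalizer (K : Set G) := fun n hn =>
    D.norm_cent (mem_inf.1 hn).1 ((mem_inf.1 hn).2.2 x hx)
  have h1 : o2 K ⊓ CC ≤ o2 CC := by
    refine le_o2 inf_le_right ((o2_isPGroup _).to_le inf_le_left) ?_
    refine le_normalizer_of fun g hg y hy => ?_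
    exact mem_inf.2 ⟨conj_mem_of_mem (Cfsg.Agent.Omega.normalizer_le_normalizer_o2' _ (hn hg)) (mem_inf.1 hy).1,
      mul_mem (mul_mem hg (mem_inf.1 hy).2) (inv_mem hg)⟩
  exact (le_inf (D.V_le_o2N hh hx hxF) (D.V_le_Ca hh)).trans h1

theorem CC_eq {h k : G} (hh : h ∈ H) (hk : k ∈ H)
    (hp : MulAut.conj k • Zp ⊔ Rr (S : Subgroup G) P H =
      MulAut.conj h • Zp ⊔ Rr (S : Subgroup G) P H) :
    Ca (MulAut.conj k • Zp) (Rr (S : Subgroup G) P H) =
      Ca (MulAut.conj h • Zp) (Rr (S : Subgroup G) P H) :=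
  le_antisymm (Ca_le (D.Z_norm_R hk) (hp ▸ le_sup_left)) (Ca_le (D.Z_norm_R hh) (hp ▸ le_sup_left))

/-- **(3)** the lines over a point commute -/
theorem comm_over {h k : G} (hh : h ∈ H) (hk : k ∈ H)
    (hp : MulAut.conj k • Zp ⊔ Rr (S : Subgroup G) P H =
      MulAut.conj h • Zp ⊔ Rr (S : Subgroup G) P H) :
    MulAut.conj h • zl (S : Subgroup G) P ≤
      centralizer ((MulAut.conj k • zl (S : Subgroup G) P : Subgroup G) : Set G) := by
  have D' := Basic.geo D.hc D.data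
  have h1 := D.V_le_o2CC hh
  have h2 := D.V_le_o2CC hk
  have h3 := D.o2CC_le hh
  have h4 := D.o2CC_le hk
  rw [D.CC_eq hh hk hp] at h2 h4
  exact D'.noff' D.par D.par ((h1.trans h4).trans (conj_le_iff.2 D.SP)) ((h2.trans h3).trans (conj_le_iff.2 D.SP))

theorem V_le_VO {h k : G} (hk : k ∈ H) (hp : MulAut.conj k • Zp ⊔ Rr (S : Subgroup G) P H =
      MulAut.conj h • Zp ⊔ Rr (S : Subgroup G) P H) :
    MulAut.conj k • zl (S : Subgroup G) P ≤ VO (S : Subgroup G) P H Zp h :=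
  le_iSup₂_of_le (f := fun k (_ : k ∈ {k : G | k ∈ H ∧ MulAut.conj k • Zp ⊔ Rr (S : Subgroup G) P H =
    MulAut.conj h • Zp ⊔ Rr (S : Subgroup G) P H}) => MulAut.conj k • zl (S : Subgroup G) P) k
    ⟨hk, hp⟩ le_rfl

theorem VO_le {h : G} {A : Subgroup G} (hA : ∀ k ∈ H, MulAut.conj k • Zp ⊔ Rr (S : Subgroup G) P H =
      MulAut.conj h • Zp ⊔ Rr (S : Subgroup G) P H → MulAut.conj k • zl (S : Subgroup G) P ≤ A) :
    VO (S : Subgroup G) P H Zp h ≤ A := iSup₂_le fun k hk => hA k hk.1 hk.2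

theorem VO_le_NN {h : G} : VO (S : Subgroup G) P H Zp h ≤ NN (S : Subgroup G) P H :=
  D.VO_le fun _ hk _ => conj_le_NN hk

/-- `V^_p` is in `O₂(CC_h)` -/
theorem VO_le_o2CC {h : G} (hh : h ∈ H) : VO (S : Subgroup G) P H Zp h ≤
    o2 (NN (S : Subgroup G) P H ⊓ Ca (MulAut.conj h • Zp) (Rr (S : Subgroup G) P H)) :=
  D.VO_le fun k hk hp => by
    have h1 := D.V_le_o2CC hk
    rwa [D.CC_eq hh hk hp] at h1

theorem VO_le_S {h : G} (hh : h ∈ H) : VO (S : Subgroup G) P H Zp h ≤ MulAut.conj h • (S : Subgroup G) :=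
  (D.VO_le_o2CC hh).trans (D.o2CC_le hh)

theorem VO_two {h : G} (hh : h ∈ H) : IsPGroup 2 (VO (S : Subgroup G) P H Zp h) :=
  (o2_isPGroup _).to_le (D.VO_le_o2CC hh)

/-- **(3)** `V^_p` is abelian -/
theorem VO_comm {h : G} (_hh : h ∈ H) :
    VO (S : Subgroup G) P H Zp h ≤ centralizer (VO (S : Subgroup G) P H Zp h : Set G) :=
  D.VO_le fun _ hk hp => comm_symm (D.VO_le fun _ hl hp' => comm_symm (D.comm_over hk hl (hp'.trans hp.symm)))

/-- `V^_p` centralises `Z^h R` -/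
theorem VO_cent {h w x : G} (_hh : h ∈ H) (hw : w ∈ VO (S : Subgroup G) P H Zp h)
    (hx : x ∈ MulAut.conj h • Zp ⊔ Rr (S : Subgroup G) P H) : w * x = x * w := by
  have h1 : VO (S : Subgroup G) P H Zp h ≤
      centralizer ((MulAut.conj h • Zp ⊔ Rr (S : Subgroup G) P H : Subgroup G) : Set G) := by
    refine D.VO_le fun k hk hp => ?_
    rw [← hp, le_centralizer_iff]
    refine sup_le ?_ ?_
    · rw [← le_centralizer_iff]
      have h2 := conj_le_centralizer (g := k) ((zl_abel D.hc S D.par.isLoc).1)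
      exact h2.trans (centralizer_le (D.conjZ_le_V k))
    · rw [← le_centralizer_iff]
      exact (conj_le_NN hk).trans D.NN_cent_R
  exact (mem_centralizer_iff.1 (h1 hw) x hx).symm

/-- the exponent of `V^_p` -/
theorem VO_sq {h w : G} (hh : h ∈ H) (hw : w ∈ VO (S : Subgroup G) P H Zp h) : w * w = 1 := by
  have hab : ∀ {a b : G}, a ∈ VO (S : Subgroup G) P H Zp h → b ∈ VO (S : Subgroup G) P H Zp h → a * b = b * a :=
    fun ha hb => (mem_centralizer_iff.1 (D.VO_comm hh ha) _ hb).symm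
  rw [VO, iSup_subtype', iSup_eq_closure] at hw
  have key : ∀ w ∈ closure (⋃ i : {k : G | k ∈ H ∧ MulAut.conj k • Zp ⊔ Rr (S : Subgroup G) P H =
      MulAut.conj h • Zp ⊔ Rr (S : Subgroup G) P H},
      ((MulAut.conj (i : G) • zl (S : Subgroup G) P : Subgroup G) : Set G)),
      w ∈ VO (S : Subgroup G) P H Zp h ∧ w * w = 1 := by
    intro w hw
    induction hw using closure_induction with
    | mem x hx =>
      obtain ⟨⟨k, hk⟩, hx⟩ := Set.mem_iUnion.1 hx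
      refine ⟨D.V_le_VO hk.1 hk.2 hx, ?_⟩
      have hx' : x ∈ MulAut.conj k • zl (S : Subgroup G) P := hx
      rw [mem_conj] at hx'
      have h1 := D.sqV hx'
      calc x * x = k * ((k⁻¹ * x * k) * (k⁻¹ * x * k)) * k⁻¹ := by group
        _ = 1 := by rw [h1]; group
    | one => exact ⟨one_mem _, one_mul _⟩
    | mul a b _ _ ha hb =>
      refine ⟨mul_mem ha.1 hb.1, ?_⟩
      calc a * b * (a * b) = a * (b * a) * b := by group
        _ = (a * a) * (b * b) := by rw [← hab ha.1 hb.1]; group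
        _ = 1 := by rw [ha.2, hb.2, one_mul]
    | inv a _ ha =>
      refine ⟨inv_mem ha.1, ?_⟩
      rw [← mul_inv_rev, ha.2, inv_one]
  exact (key w hw).2

/-- `[V^_p, U] ≤ Z^h R` -/
theorem VO_cm {h w u : G} (hh : h ∈ H) (hw : w ∈ VO (S : Subgroup G) P H Zp h) (hu : u ∈ zl (S : Subgroup G) H) :
    cm w u ∈ MulAut.conj h • Zp ⊔ Rr (S : Subgroup G) P H := by
  set B := MulAut.conj h • Zp ⊔ Rr (S : Subgroup G) P H with hB
  let X : Subgroup G :=
    { carrier := {w | w ∈ VO (S : Subgroup G) P H Zp h ∧ ∀ u ∈ zl (S : Subgroup G) H, cm w u ∈ B}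
      one_mem' := ⟨one_mem _, fun u _ => by
        have : cm 1 u = 1 := by rw [cm_def]; group
        rw [this]; exact one_mem _⟩
      mul_mem' := by
        rintro a b ⟨ha, ha'⟩ ⟨hb, hb'⟩
        refine ⟨mul_mem ha hb, fun u hu => ?_⟩
        have e : cm (a * b) u = (a * cm b u * a⁻¹) * cm a u := by simp only [cm_def]; group
        have e2 : a * cm b u * a⁻¹ = cm b u := by
          rw [D.VO_cent hh ha (hb' u hu), mul_inv_cancel_right]
        rw [e, e2]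
        exact mul_mem (hb' u hu) (ha' u hu)
      inv_mem' := by
        rintro a ⟨ha, ha'⟩
        refine ⟨inv_mem ha, fun u hu => ?_⟩
        have e : cm a⁻¹ u = a⁻¹ * (cm a u)⁻¹ * a := by simp only [cm_def]; group
        have e2 : a⁻¹ * (cm a u)⁻¹ * a = (cm a u)⁻¹ := by
          rw [mul_assoc, ← D.VO_cent hh ha (inv_mem (ha' u hu)), inv_mul_cancel_left]
        rw [e, e2]
        exact inv_mem (ha' u hu) }
  have h1 : VO (S : Subgroup G) P H Zp h ≤ X := D.VO_le fun k hk hp a ha => ⟨D.V_le_VO hk hp ha, fun u hu => by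
    rw [hB, ← hp]
    exact mem_sup_left (D.cm_conj hk ha hu)⟩
  exact (h1 hw).2 u hu

/-- **(3)(b)** -/
theorem bij {h k w x : G} (hh : h ∈ H) (hk : k ∈ H)
    (hY : ¬ MulAut.conj h • Zp ≤ MulAut.conj k • Yy (S : Subgroup G) P H)
    (hw : w ∈ VO (S : Subgroup G) P H Zp h) (hx : x ∈ MulAut.conj k • Zp)
    (hxF : x ∉ Rp) (hwx : cm w x ∈ Rr (S : Subgroup G) P H) :
    ∀ y ∈ MulAut.conj k • Zp, cm w y ∈ Rr (S : Subgroup G) P H := by
  intro y hy
  by_contra hc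
  have hyU := D.conjZ_le hk hy
  have hwN := D.VO_le_NN hw
  have hwH := D.NN_le_H hwN
  -- some line `V^l` over `p` moves `y`
  obtain ⟨l, hl, hlp, hly⟩ : ∃ l ∈ H, MulAut.conj l • Zp ⊔ Rr (S : Subgroup G) P H =
      MulAut.conj h • Zp ⊔ Rr (S : Subgroup G) P H ∧
      ¬ MulAut.conj k • Zp ≤ MulAut.conj l • Yy (S : Subgroup G) P H := by
    by_contra hcon
    push Not at hcon
    apply hc
    have h1 : VO (S : Subgroup G) P H Zp h ≤ centralizer ({y} : Set G) := D.VO_le fun l hl hlp a ha => by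
      rw [mem_centralizer_singleton_iff]
      exact D.Y_comm ha (hcon l hl hlp hy)
    have h2 : cm w y = 1 := cm_eq_one.2 (mem_centralizer_singleton_iff.1 (h1 hw))
    rw [h2]
    exact one_mem _
  -- `Z^l ≰ Y^k`
  have hlY : ¬ MulAut.conj l • Zp ≤ MulAut.conj k • Yy (S : Subgroup G) P H := fun h1 => hY (by
    have h2 : MulAut.conj l • Zp ⊔ Rr (S : Subgroup G) P H ≤
        MulAut.conj k • Yy (S : Subgroup G) P H := sup_le h1 (D.R_le_Y hk)
    rw [hlp] at h2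
    exact le_sup_left.trans h2)
  have ho : Opp (S : Subgroup G) P l k := by
    by_contra hno
    rcases D.pair hl hk hno with h1 | h1
    · exact hlY h1
    · exact hly h1
  -- `c = [w, y] ∉ Y^k`
  have hcB := D.VO_cm hh hw hyU
  set c := cm w y with hcdef
  have hcU : c ∈ zl (S : Subgroup G) H := (sup_le (D.conjZ_le hh) D.RU) hcB
  have hcY : c ∉ MulAut.conj k • Yy (S : Subgroup G) P H := by
    intro h1
    rw [← hlp] at hcB
    obtain ⟨a, ha, b, hb, hab⟩ := RA.End.exists_mul_of_mem_sup (D.Z_norm_R hl) hcB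
    apply hc
    have h2 : a ∈ MulAut.conj k • Yy (S : Subgroup G) P H := by
      have h3 : a = c * b⁻¹ := by rw [hab, mul_inv_cancel_right]
      rw [h3]
      exact mul_mem h1 (inv_mem (D.R_le_Y hk hb))
    have h4 := D.inf_F hl hk ho ha h2
    rw [hab]
    refine mul_mem ?_ hb
    have h5 := D.R_inf_Z
    have h6 : a ∈ Rr (S : Subgroup G) P H ⊓ Zp := by rw [h5]; exact h4
    exact (mem_inf.1 h6).1
  -- `b ∈ V^k` with `[b, c] = y` modulo `F`
  obtain ⟨b, hb, hbc⟩ := D.exists_cm hk hcU hcY hy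
  -- `w b` is a 2-element
  have : Fact (Nat.Prime 2) := ⟨Nat.prime_two⟩
  have hB2 : MulAut.conj k • zl (S : Subgroup G) P ≤ o2 (NN (S : Subgroup G) P H ⊓ centralizer ({x} : Set G)) :=
    D.V_le_o2N hk hx hxF
  have hwn : zpowers w ≤ normalizer ((o2 (NN (S : Subgroup G) P H ⊓ centralizer ({x} : Set G)) : Subgroup G) :
      Set G) := by
    rw [zpowers_le]
    exact Cfsg.Agent.Omega.normalizer_le_normalizer_o2' _ (D.norm_cent hwN hwx)
  have hw2 : IsPGroup 2 (zpowers w) :=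
    (D.VO_two hh).to_le (zpowers_le.2 hw)
  have hJ := IsPGroup.to_sup_of_normal_right' hw2 (o2_isPGroup (NN (S : Subgroup G) P H ⊓ centralizer ({x} : Set G))) hwn
  have hXJ : w * b ∈ zpowers w ⊔ o2 (NN (S : Subgroup G) P H ⊓ centralizer ({x} : Set G)) :=
    mul_mem (mem_sup_left (mem_zpowers w)) (mem_sup_right (hB2 hb))
  obtain ⟨n, hn⟩ := hJ ⟨w * b, hXJ⟩
  have hn' : (w * b) ^ 2 ^ n = 1 := by
    have := congrArg Subtype.val hn
    simpa using this
  -- the action on `y`, `c`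
  obtain ⟨f, hf, hfe⟩ : ∃ f ∈ Rp, cm b c = f * y⁻¹ := ⟨cm b c * y, hbc, by group⟩
  have hbH : b ∈ NN (S : Subgroup G) P H := conj_le_NN hk hb
  have hfH : ∀ {g : G}, g ∈ NN (S : Subgroup G) P H → g * f = f * g := fun hg => D.Rp_fix hf hg
  have hfw := hfH hwN
  have hfb := hfH hbH
  have hyy : y * y = 1 := D.sqU hyU
  have hcc : c * c = 1 := D.sqU hcU
  have hff : f * f = 1 := D.sqU (D.F_le_U hf)
  have hyi : y⁻¹ = y := D.inv_U hyU
  have hfy : y * f = f * y := D.commU hyU (D.F_le_U hf)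
  have hfc : c * f = f * c := D.commU hcU (D.F_le_U hf)
  have hcy : c * y = y * c := D.commU hcU hyU
  have hwy : w * y * w⁻¹ = c * y := by rw [hcdef, cm_def]; group
  have hwc : w * c * w⁻¹ = c := by rw [D.VO_cent hh hw hcB, mul_inv_cancel_right]
  have hby : b * y * b⁻¹ = y := by
    have h1 : b * y = y * b := by
      have hz' := D.conjZ_le_V k hy
      have hb' := hb
      rw [mem_conj] at hb' hz'
      have h3 := D.commV hb' hz'
      calc b * y = k * ((k⁻¹ * b * k) * (k⁻¹ * y * k)) * k⁻¹ := by group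
        _ = k * ((k⁻¹ * y * k) * (k⁻¹ * b * k)) * k⁻¹ := by rw [h3]
        _ = y * b := by group
    rw [h1, mul_inv_cancel_right]
  have hbc' : b * c * b⁻¹ = f * y * c := by
    have h1 : b * c * b⁻¹ = cm b c * c := by rw [cm_def]; group
    rw [h1, hfe, hyi]
  have hXy : (w * b) * y * (w * b)⁻¹ = c * y := by
    calc (w * b) * y * (w * b)⁻¹ = w * (b * y * b⁻¹) * w⁻¹ := by group
      _ = _ := by rw [hby, hwy]
  have hXf : (w * b) * f * (w * b)⁻¹ = f := by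
    rw [hfH (mul_mem hwN hbH), mul_inv_cancel_right]
  have hXc : (w * b) * c * (w * b)⁻¹ = f * y := by
    calc (w * b) * c * (w * b)⁻¹ = w * (b * c * b⁻¹) * w⁻¹ := by group
      _ = (w * f * w⁻¹) * (w * y * w⁻¹) * (w * c * w⁻¹) := by rw [hbc']; group
      _ = f * (c * y) * c := by rw [hfw, mul_inv_cancel_right, hwy, hwc]
      _ = f * y * (c * c) := by rw [hcy]; group
      _ = f * y := by rw [hcc, mul_one]
  have hX3 : (w * b) ^ 3 * y * ((w * b) ^ 3)⁻¹ = y := by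
    calc (w * b) ^ 3 * y * ((w * b) ^ 3)⁻¹
        = (w * b) * ((w * b) * ((w * b) * y * (w * b)⁻¹) * (w * b)⁻¹) * (w * b)⁻¹ := by
          rw [pow_succ, pow_succ, pow_one]; group
      _ = (w * b) * ((w * b) * (c * y) * (w * b)⁻¹) * (w * b)⁻¹ := by rw [hXy]
      _ = (w * b) * (((w * b) * c * (w * b)⁻¹) * ((w * b) * y * (w * b)⁻¹)) * (w * b)⁻¹ := by group
      _ = (w * b) * ((f * y) * (y * c)) * (w * b)⁻¹ := by rw [hXc, hXy, hcy]
      _ = (w * b) * (f * (y * y) * c) * (w * b)⁻¹ := by simp only [mul_assoc]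
      _ = ((w * b) * f * (w * b)⁻¹) * ((w * b) * c * (w * b)⁻¹) := by rw [hyy, mul_one]; group
      _ = (f * f) * y := by rw [hXf, hXc, mul_assoc]
      _ = y := by rw [hff, one_mul]
  have hX : w * b ∈ zpowers ((w * b) ^ 3) := by
    have h1 : ((w * b) ^ 3) ∈ zpowers (w * b) := pow_mem (mem_zpowers _) _
    have h2 : Nat.Coprime 3 (orderOf (w * b)) := by
      refine Nat.Coprime.coprime_dvd_right (orderOf_dvd_of_pow_eq_one hn') ?_
      exact Nat.Coprime.pow_right n (by norm_num)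
    obtain ⟨m, hm⟩ := exists_pow_eq_self_of_coprime h2
    have h3 := pow_mem (mem_zpowers ((w * b) ^ 3)) m
    rwa [hm] at h3
  have hX' : w * b ∈ centralizer ({y} : Set G) := by
    have h1 : (w * b) ^ 3 ∈ centralizer ({y} : Set G) := by
      rw [mem_centralizer_singleton_iff]
      calc (w * b) ^ 3 * y = ((w * b) ^ 3 * y * ((w * b) ^ 3)⁻¹) * (w * b) ^ 3 := by group
        _ = y * (w * b) ^ 3 := by rw [hX3]
    exact (zpowers_le.2 h1) hX
  apply hc
  have h1 : c * y = y := by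
    rw [← hXy, mem_centralizer_singleton_iff.1 hX', mul_inv_cancel_right]
  have h2 : c = 1 := by
    calc c = c * y * y⁻¹ := by group
      _ = 1 := by rw [h1, mul_inv_cancel]
  rw [h2]
  exact one_mem _

end HypF

end Cfsg.Agent.Omega.NOThreeL.RFEnd

end

section


/-!
# NO-3L, `R ∩ (A)`, `k = 1`, nonsplit, fields (NsF), (f) END (4): MANY AXES at group level

* `HypF.sup_eq_of_img` : `img Zp^k = img Zp^h` implies `Zp^k I = Zp^h I`; `HypF.over_le_S`, `HypF.over_comm`;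
* `HypF.fix_pt` : `x ∈ Zp^g - Rp` centralised by the lines over `e` implies that `V_e` fixes `e^g` pointwise;
* `HypF.pt_of_par`, `HypF.pt_of_zc` : this for `g ∈ P₁ ∈ P*(S)`, `P₁ ≤ H`, and for `g ∈ H ∩ N_G(Z(S))`;
* **`HypF.many_false`** : MANY AXES (`p ~ e ⟹ p = e`) is impossible.
-/

set_option autoImplicit false
set_option linter.unusedSectionVars false

namespace Cfsg.Agent.Omega.NOThreeL.RFEnd

open Subgroup Cfsg Cfsg.Agent.Omega.MinPar
open Cfsg.Agent.ZN (zc zl o2)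
open Cfsg.Agent.Omega.Frame Cfsg.Agent.Omega.FrameNOFF
open Cfsg.Agent.Omega.Node.NO3L Cfsg.Agent.Omega.NOThreeL.Basic
open Cfsg.Agent.Omega.NoFF.Basic (conj_conj mem_conj conj_le_iff conj_le_centralizer comm_symm comm_mono)
open Cfsg.Agent.Omega.NOThreeL.Pair (conj_eq_of_mem conj_le_normalizer zl_abel)
open Cfsg.Agent.MinSimple.VModule (zl_le zc_le_zl le_normalizer_zl zc_le o2_isPGroup le_normalizer_o2 le_o2 o2_le
  normalizer_le_normalizer_zc)
open Cfsg.Agent.Omega.NOThreeL.RTools (cm cm_def cm_mul NN conj_mem_of_mem conj_le_NN le_NN NN_le le_normalizer_NN)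
open Cfsg.Agent.Omega.NOThreeL.RBig.Pts (Mv Frame)
open Cfsg.Agent.Omega.NOThreeL.RA (Yy Rr Opp Md img)
open scoped Pointwise commutatorElement

universe u

variable {G : Type u} [Group G]

namespace HypF

variable [Finite G] {F : Type} [Field F] {e : G → Fin 2 → F} {S : Sylow 2 G} {P H Zp Rp Dp B : Subgroup G}
  (D : HypF e S P H Zp Rp Dp B)
  {M Γ : Type*} [AddCommGroup M] [Group Γ] [DistribMulAction Γ M] {ρ : ↥H →* Γ} {π : G → M}
include D

variable (Q : Md (zl (S : Subgroup G) H) (Rr (S : Subgroup G) P H) H ρ π)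

include Q

/-- `img Zp^k ≤ img Zp^h` implies `Zp^k I ≤ Zp^h I` -/
theorem sup_le_of_img {h k : G} (hh : h ∈ H) (hk : k ∈ H)
    (hp : img π (MulAut.conj k • Zp) ≤ img π (MulAut.conj h • Zp)) :
    MulAut.conj k • Zp ⊔ Rr (S : Subgroup G) P H ≤ MulAut.conj h • Zp ⊔ Rr (S : Subgroup G) P H := by
  refine sup_le (fun x hx => ?_) le_sup_right
  have h1 := hp (Md.pi_mem hx)
  rw [Q.pi_mem_iff (D.conjZ_le hh) (D.conjZ_le hk hx)] at h1
  obtain ⟨z, hz, r, hr, rfl⟩ := h1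
  exact mul_mem (mem_sup_right hr) (mem_sup_left hz)

theorem sup_eq_of_img {h k : G} (hh : h ∈ H) (hk : k ∈ H)
    (hp : img π (MulAut.conj k • Zp) = img π (MulAut.conj h • Zp)) :
    MulAut.conj k • Zp ⊔ Rr (S : Subgroup G) P H = MulAut.conj h • Zp ⊔ Rr (S : Subgroup G) P H :=
  le_antisymm (D.sup_le_of_img Q hh hk hp.le) (D.sup_le_of_img Q hk hh hp.ge)

/-- the lines over `e` lie in `S` -/
theorem over_le_S {k : G} (hk : k ∈ H) (hp : img π (MulAut.conj k • Zp) = img π Zp) :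
    MulAut.conj k • zl (S : Subgroup G) P ≤ (S : Subgroup G) := by
  have h0 : MulAut.conj (1 : G) • Zp = Zp := by rw [map_one, one_smul]
  have h1 := D.V_le_VO hk (D.sup_eq_of_img Q (one_mem H) hk (by rw [h0]; exact hp))
  have h2 := D.VO_le_S (one_mem H)
  rw [map_one, one_smul] at h2
  exact h1.trans h2

/-- the lines over `e` commute with `V_{P₁}`, `P₁ ≤ H` -/
theorem over_comm {k : G} (hk : k ∈ H)
    (hp : img π (MulAut.conj k • Zp) = img π Zp) {P₁ : Subgroup G}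
    (h₁ : IsParS (S : Subgroup G) P₁) (hH : P₁ ≤ H) :
    MulAut.conj k • zl (S : Subgroup G) P ≤ centralizer (zl (S : Subgroup G) P₁ : Set G) := by
  have D' := Basic.geo D.hc D.data
  have h := D'.noff' D.par h₁ (g := k) (h := 1) (by
    rw [map_one, one_smul]
    exact (D.over_le_S Q hk hp).trans h₁.le) (by
    rw [map_one, one_smul]
    have h2 : zl (S : Subgroup G) P₁ ≤ zl (S : Subgroup G) H := RA.End.zl_mono hH
    refine h2.trans ?_
    rw [← D.conjU hk]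
    exact conj_le_iff.2 D.UP)
  rw [map_one, one_smul] at h
  exact h

omit Q D in
theorem hone (π : G → M) (Zp : Subgroup G) : img π (MulAut.conj (1 : G) • Zp) = img π Zp := by
  rw [map_one, one_smul]

omit Q D in
theorem e_mem (π : G → M) (Zp H : Subgroup G) : img π Zp ∈ Pt π Zp H := ⟨1, one_mem H, hone π Zp⟩

/-- `x ∈ Zp^g - Rp` centralised modulo `I` by the lines over `e`: `V_e` fixes `e^g` -/
theorem fix_pt [Finite M] {g : G} (hg : g ∈ H) {x : G} (hx : x ∈ MulAut.conj g • Zp) (hxR : x ∉ Rp)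
    (h : ∀ k ∈ H, img π (MulAut.conj k • Zp) = img π Zp →
      ∀ a ∈ MulAut.conj k • zl (S : Subgroup G) P, a * x = x * a) :
    ¬ Mv (VV ρ π Zp (S : Subgroup G) P) (img π Zp) (img π (MulAut.conj g • Zp)) := by
  intro hm
  have Fr := D.frame Q
  have he := e_mem π Zp H
  have hr := mem_Pt (π := π) (Zp := Zp) hg
  have hm' := Fr.symm he hr hm
  have hfix : ∀ v ∈ VV ρ π Zp (S : Subgroup G) P (img π Zp), v • π x = π x := by
    intro v hv
    have h1 : VV ρ π Zp (S : Subgroup G) P (img π Zp) ≤ MulAction.stabilizer Γ (π x) := by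
      refine D.VV_le fun k hk hp a ha haH => ?_
      change ρ ⟨a, haH⟩ • π x = π x
      rw [D.smul_eq_iff Q haH (D.conjZ_le hg hx), cm_eq_one.2 (h k hk hp a ha)]
      exact one_mem _
    exact h1 hv
  obtain ⟨v, hv, y, hy, hne⟩ := hm
  rcases Fr.bij _ he _ hr hm' v hv with h1 | h1
  · exact hne (h1 y hy)
  · exact hxR ((D.pi_eq_zero Q hg hx).1 (h1 _ (Md.pi_mem hx) (hfix v hv)))

omit Q in
/-- `ε^g ∉ Rp` -/
theorem conj_eps {x g : G} (hg : g ∈ H) (hx : x ∈ Dp) (hx1 : x ≠ 1) : g * x * g⁻¹ ∉ Rp := by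
  intro h
  have h1 := D.Rp_conj' h hg
  have e1 : g⁻¹ * (g * x * g⁻¹) * g = x := by group
  rw [e1] at h1
  have h2 : x ∈ Rp ⊓ Dp := mem_inf.2 ⟨h1, hx⟩
  rw [D.RD, mem_bot] at h2
  exact hx1 h2

omit Q in
theorem conj_mem_conj' {x g : G} (hx : x ∈ Zp) : g * x * g⁻¹ ∈ MulAut.conj g • Zp := by
  rw [mem_conj]
  have e1 : g⁻¹ * (g * x * g⁻¹) * g = x := by group
  rwa [e1]

/-- `g ∈ P₁ ∈ P*(S)`, `P₁ ≤ H` -/
theorem pt_of_par [Finite M] {P₁ : Subgroup G} (h₁ : IsParS (S : Subgroup G) P₁) (hH : P₁ ≤ H) {g : G} (hg : g ∈ P₁) :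
    ¬ Mv (VV ρ π Zp (S : Subgroup G) P) (img π Zp) (img π (MulAut.conj g • Zp)) := by
  obtain ⟨x, hx, hx1⟩ := D.eps
  obtain ⟨hxz, hxD⟩ := mem_inf.1 hx
  refine D.fix_pt Q (hH hg) (D.conj_mem_conj' (D.zcZ hxz)) (D.conj_eps (hH hg) hxD hx1) fun k hk hp a ha => ?_
  have h2 : g * x * g⁻¹ ∈ zl (S : Subgroup G) P₁ :=
    conj_mem_of_mem (le_normalizer_zl _ _ hg) (zc_le_zl (S : Subgroup G) P₁ hxz)
  exact (mem_centralizer_iff.1 (D.over_comm Q hk hp h₁ hH ha) _ h2).symm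

/-- `g ∈ H ∩ N_G(Z(S))` -/
theorem pt_of_zc [Finite M] {g : G} (hgH : g ∈ H) (hg : g ∈ normalizer (zc (S : Subgroup G) : Set G)) :
    ¬ Mv (VV ρ π Zp (S : Subgroup G) P) (img π Zp) (img π (MulAut.conj g • Zp)) := by
  obtain ⟨x, hx, hx1⟩ := D.eps
  obtain ⟨hxz, hxD⟩ := mem_inf.1 hx
  have h3 := conj_mem_of_mem hg hxz
  refine D.fix_pt Q hgH (D.conj_mem_conj' (D.zcZ hxz)) (D.conj_eps hgH hxD hx1) fun k hk hp a ha => ?_
  -- `V^k` centralises `Zp R` up to `I`, and `ε^g ∈ Zp`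
  have h4 := D.VO_cent (one_mem H) (w := a) (x := g * x * g⁻¹)
    (D.V_le_VO hk (D.sup_eq_of_img Q (one_mem H) hk (by rw [hone]; exact hp)) ha)
    (mem_sup_left (by rw [map_one, one_smul]; exact D.zcZ h3))
  exact h4

/-- **MANY AXES** is impossible. -/
theorem many_false [Finite M] (hmany : ∀ e ∈ Pt π Zp H, ∀ p ∈ Pt π Zp H,
    ¬ Mv (VV ρ π Zp (S : Subgroup G) P) e p → e = p) : False := by
  have Fr := D.frame Q
  set e₀ := img π Zp with he₀
  have heP : e₀ ∈ Pt π Zp H := e_mem π Zp H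
  -- `H` fixes `e₀`
  have hle : H ≤ (Subgroup.comap ρ (MulAction.stabilizer Γ e₀)).map H.subtype := by
    have key : ∀ {g : G} (hgH : g ∈ H), ¬ Mv (VV ρ π Zp (S : Subgroup G) P) e₀ (img π (MulAut.conj g • Zp)) →
        g ∈ (Subgroup.comap ρ (MulAction.stabilizer Γ e₀)).map H.subtype := by
      intro g hgH h1
      refine ⟨⟨g, hgH⟩, ?_, rfl⟩
      change ρ ⟨g, hgH⟩ • e₀ = e₀
      rw [he₀, D.smul_img Q hgH D.ZU]
      exact (hmany e₀ heP _ (mem_Pt hgH) h1).symm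
    refine IsLoc.le_of_forall S D.loc (fun g hg => ?_) fun P₁ h₁ hH g hg => ?_
    · obtain ⟨hgH, hgN⟩ := mem_inf.1 hg
      exact key hgH (D.pt_of_zc Q hgH (normalizer_le_normalizer_zc _ hgN))
    · by_cases hz : P₁ ≤ normalizer (zc (S : Subgroup G) : Set G)
      · exact key (hH hg) (D.pt_of_zc Q (hH hg) (hz hg))
      · exact key (hH hg) (D.pt_of_par Q ⟨h₁, hz⟩ hH hg)
  obtain ⟨r, hr, hm⟩ := Fr.exists_mv heP
  obtain ⟨h, hh, rfl⟩ := hr
  obtain ⟨⟨h', hh'⟩, h1, h2⟩ := hle hh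
  have h3 : h' = h := h2
  subst h3
  have h4 : ρ ⟨h', hh'⟩ • e₀ = e₀ := h1
  rw [he₀, D.smul_img Q hh' D.ZU] at h4
  rw [h4] at hm
  obtain ⟨v, hv, x, hx, hne⟩ := hm
  exact hne (Fr.triv _ heP v hv x hx)

end HypF

end Cfsg.Agent.Omega.NOThreeL.RFEnd

end

section


/-!
# NO-3L, `R ∩ (A)`, `k = 1`, nonsplit, fields (NsF), (f) END (7)

`K = V C(U)`.

* `HypF.W0` : `⟨V_{P₁}^{⟨P, C⟩}⟩ ≤ V C(U)` (by (Q)); `HypF.good_act` : `⟨V^{C_G(z)}⟩ ≤ V C(U)` for `z ∈ Z(S) - Rp`;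
* **`HypF.conj_V`** : `V^{p₁⁻¹} ≤ V C(U)` for `p₁ ∈ P₁ ∈ P*(S)`, `P₁ ≤ H`;
* **`HypF.false_of_QP`** : (Q) and ONE AXIS give a contradiction.
-/

set_option autoImplicit false
set_option linter.unusedSectionVars false

namespace Cfsg.Agent.Omega.NOThreeL.RFEnd

open Subgroup Cfsg Cfsg.Agent.Omega.MinPar
open Cfsg.Agent.ZN (zc zl o2)
open Cfsg.Agent.Omega.Frame Cfsg.Agent.Omega.FrameNOFF
open Cfsg.Agent.Omega.Node.NO3L Cfsg.Agent.Omega.NOThreeL.Basic
open Cfsg.Agent.Omega.NoFF.Basic (V conj_conj mem_conj conj_le_iff conj_le_centralizer comm_symm comm_mono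
  Z_le_V V_le conj_V_mul)
open Cfsg.Agent.Omega.NOThreeL.Pair (conj_eq_of_mem conj_le_normalizer zl_abel)
open Cfsg.Agent.MinSimple.VModule (zl_le zc_le_zl le_normalizer_zl zc_le o2_isPGroup le_normalizer_o2 le_o2 o2_le
  normalizer_le_normalizer_zc mem_zc)
open Cfsg.Agent.Omega.NOThreeL.RTools (cm cm_def cm_mul NN conj_mem_of_mem conj_le_NN le_NN NN_le le_normalizer_NN)
open Cfsg.Agent.Omega.NOThreeL.RBig.Pts (Mv Frame Out)
open Cfsg.Agent.Omega.NOThreeL.RA (Yy Rr Opp Md img)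
open Cfsg.Agent.Omega.NOThreeL.RF.End (QPV)
open Cfsg.Agent.Omega.NOThreeL.RA.End (zl_mono exists_mul_of_mem_sup le_normalizer_centralizer)
open Cfsg.Agent.Lib.SL2Mat
open Cfsg.Agent.Omega.NatPair (ap ap_mul ap_one ap_inv_ap)
open scoped Pointwise commutatorElement

universe u

variable {G : Type u} [Group G]

namespace HypF

variable [Finite G] {F : Type} [Field F] {e : G → Fin 2 → F} {S : Sylow 2 G} {P H Zp Rp Dp B : Subgroup G}
  (D : HypF e S P H Zp Rp Dp B)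
include D

/-! ### coordinates -/

theorem e_inv {v : G} (hv : v ∈ zl (S : Subgroup G) P) : e v⁻¹ = e v := by rw [D.inv_V hv]

/-- `e : Rp → F × 0` is onto -/
theorem exists_Rp (x : F) : ∃ f ∈ Rp, e f = ![x, 0] := by
  obtain ⟨v, hv, hev⟩ := D.surj ![x, 0]
  have hvZ : v ∈ Zp := (D.line v hv).1 (by rw [hev]; rfl)
  have hn : Rp ≤ normalizer (Dp : Set G) := (D.RV.trans (D.VS.trans D.SP)).trans D.PD
  obtain ⟨f, hf, d, hd, rfl⟩ := exists_mul_of_mem_sup hn (D.ZRD hvZ)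
  refine ⟨f, hf, ?_⟩
  rw [← hev, D.mul f (D.RV hf) d (D.ZV (D.DZ hd)), (D.ker d (D.ZV (D.DZ hd))).2 hd, add_zero]

theorem exists_rho : ∃ r ∈ P, ∀ y ∈ zl (S : Subgroup G) P, e (r * y * r⁻¹) = ![e y 0, e y 0 + e y 1] := by
  obtain ⟨r, hr, hA⟩ := D.lift (lo 1)
  exact ⟨r, hr, fun y hy => by rw [hA y hy, RAOne.ap_lo', one_mul]⟩

/-- `V = Zp Rp^r` -/
theorem split_V {r : G} (hr : r ∈ P) (h : ∀ y ∈ zl (S : Subgroup G) P, e (r * y * r⁻¹) = ![e y 0, e y 0 + e y 1])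
    {v : G} (hv : v ∈ zl (S : Subgroup G) P) : ∃ z ∈ Zp, ∃ f ∈ Rp, v = z * (r * f * r⁻¹) := by
  obtain ⟨f, hf, hef⟩ := D.exists_Rp (e v 1)
  have h1 : r * f * r⁻¹ ∈ zl (S : Subgroup G) P := conj_mem_of_mem (D.PV hr) (D.RV hf)
  refine ⟨v * (r * f * r⁻¹)⁻¹, ?_, f, hf, by group⟩
  refine (D.line _ (mul_mem hv (inv_mem h1))).1 ?_
  rw [D.mul v hv _ (inv_mem h1), D.e_inv h1, h f (D.RV hf), hef]
  change e v 1 + (e v 1 + 0) = 0
  rw [add_zero, D.two_eq]

/-- `[v, U] D = Zp` for `v ∈ V - Zp` -/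
theorem full {v z : G} (hv : v ∈ zl (S : Subgroup G) P) (hvZ : v ∉ Zp) (hz : z ∈ Zp) :
    ∃ u ∈ zl (S : Subgroup G) H, cm v u * z ∈ Dp := by
  have h0 : e v 1 ≠ 0 := fun h => hvZ ((D.line v hv).1 h)
  obtain ⟨u, hu, hb⟩ := D.up2 (e z 0 * (e v 1)⁻¹)
  have h1 := D.cm_VP hv (D.UP hu)
  refine ⟨u, hu, (D.ker _ (mul_mem h1 (D.ZV hz))).1 ?_⟩
  rw [D.mul _ h1 _ (D.ZV hz), D.e_cm hv (D.UP hu) hb]
  funext i
  fin_cases i
  · change e z 0 * (e v 1)⁻¹ * e v 1 + e z 0 = 0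
    rw [inv_mul_cancel_right₀ h0, D.two_eq]
  · change 0 + e z 1 = 0
    rw [D.ZV_P hz, add_zero]

/-! ### `K = V C(U)` -/

theorem VN : zl (S : Subgroup G) P ≤ normalizer (centralizer (zl (S : Subgroup G) H : Set G) : Set G) :=
  le_normalizer_centralizer (D.VH.trans D.HU)

/-- `B` normalises `K` -/
theorem BK : B ≤ normalizer ((zl (S : Subgroup G) P ⊔ centralizer (zl (S : Subgroup G) H : Set G) : Subgroup G) :
    Set G) := by
  intro b hb
  refine RTransv.mem_normalizer_of_conj ?_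
  rw [Subgroup.smul_sup, conj_eq_of_mem (D.PV (D.BP hb)),
    conj_eq_of_mem (le_normalizer_centralizer D.HU (D.BH hb))]

/-- The lines commute. -/
theorem line_comm {P₁ : Subgroup G} (h₁ : IsParS (S : Subgroup G) P₁) :
    zl (S : Subgroup G) P₁ ≤ centralizer (zl (S : Subgroup G) P : Set G) := by
  have D' := Basic.geo D.hc D.data
  have h := D'.noff' h₁ D.par (g := 1) (h := 1) (by
    rw [map_one, one_smul, one_smul]
    exact (IsParS.zl_le_S D.hc h₁).trans D.SP) (by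
    rw [map_one, one_smul, one_smul]
    exact D.VS.trans h₁.le)
  rw [map_one, one_smul, one_smul] at h
  exact h

/-- `⟨V_{P₁}^L⟩`, `L` long, `V_{P₁} ≤ O₂(L)`: abelian, so it is in `K` by (Q). -/
theorem act_of_le (hQ : QPV (S : Subgroup G) P H) {L P₁ : Subgroup G} (hL : IsLong (S : Subgroup G) L)
    (h₁ : IsParS (S : Subgroup G) P₁) (h3 : zl (S : Subgroup G) P₁ ≤ o2 L) (hV : zl (S : Subgroup G) P ≤ o2 L)
    {l y : G} (hl : l ∈ L) (hy : y ∈ zl (S : Subgroup G) P₁) :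
    l * y * l⁻¹ ∈ zl (S : Subgroup G) P ⊔ centralizer (zl (S : Subgroup G) H : Set G) := by
  have h4 : V (zl (S : Subgroup G) P₁) L ≤ o2 L := by
    refine V_le fun x hx => ?_
    have h5 := (conj_le_iff (g := x)).2 h3
    rwa [conj_eq_of_mem (le_normalizer_o2 _ hx)] at h5
  have h6 : L ≤ normalizer (V (zl (S : Subgroup G) P₁) L : Set G) := by
    intro g hg
    refine RTransv.mem_normalizer_of_conj ?_
    have := conj_V_mul (Z := zl (S : Subgroup G) P₁) (g := 1) hg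
    rwa [one_mul, map_one, one_smul] at this
  have D' := Basic.geo D.hc D.data
  have hSL : ∀ x ∈ L, MulAut.conj x • zl (S : Subgroup G) P₁ ≤ o2 L := fun x hx => by
    have h5 := (conj_le_iff (g := x)).2 h3
    rwa [conj_eq_of_mem (le_normalizer_o2 _ hx)] at h5
  have hLP : ∀ x ∈ L, o2 L ≤ MulAut.conj x • P₁ := fun x hx => by
    rw [← conj_eq_of_mem (le_normalizer_o2 L hx)]
    exact conj_le_iff.2 ((hL.loc.o2_le S).trans h₁.le)
  have h7 : V (zl (S : Subgroup G) P₁) L ≤ centralizer (V (zl (S : Subgroup G) P₁) L : Set G) := by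
    refine V_le fun x hx => comm_symm (V_le fun x' hx' => comm_symm ?_)
    exact D'.noff' h₁ h₁ ((hSL x hx).trans (hLP x' hx')) ((hSL x' hx').trans (hLP x hx))
  have h8 : V (zl (S : Subgroup G) P₁) L ≤ centralizer (zl (S : Subgroup G) P : Set G) := by
    refine V_le fun x hx => ?_
    have h9 := D'.noff' h₁ D.par (g := x) (h := 1) (by
        rw [map_one, one_smul]
        exact (hSL x hx).trans ((hL.loc.o2_le S).trans D.SP)) (by
        rw [map_one, one_smul]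
        exact hV.trans (hLP x hx))
    rwa [map_one, one_smul] at h9
  refine hQ _ (h4.trans (hL.o2_le S)) (hL.cz.trans h6) h7 h8 (Z_le_V (Z := zl (S : Subgroup G) P₁) hl ?_)
  rw [mem_conj]
  simpa [mul_assoc] using hy

/-- `W₀ = ⟨V_{P₁}^L⟩`, `L = ⟨P, C⟩`: all its elements act on `U` as elements of `V`. -/
theorem W0 (hQ : QPV (S : Subgroup G) P H) {P₁ : Subgroup G} (h₁ : IsParS (S : Subgroup G) P₁) (hH : P₁ ≤ H) {y l : G}
    (hy : y ∈ zl (S : Subgroup G) P₁) (hl : l ∈ P ⊔ CZ (S : Subgroup G)) :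
    l * y * l⁻¹ ∈ zl (S : Subgroup G) P ⊔ centralizer (zl (S : Subgroup G) H : Set G) := by
  have hL : IsLong (S : Subgroup G) (P ⊔ CZ (S : Subgroup G)) := D.data.loc P D.par
  have hUU : zl (S : Subgroup G) P₁ ≤ zl (S : Subgroup G) H := zl_mono hH
  -- `V ⊔ C(U)` centralises `V_{P₁}`
  have h2 : zl (S : Subgroup G) P ⊔ centralizer (zl (S : Subgroup G) H : Set G) ≤
      centralizer (zl (S : Subgroup G) P₁ : Set G) :=
    sup_le (comm_symm (D.line_comm h₁)) (centralizer_le hUU)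
  have hU : zl (S : Subgroup G) (P ⊔ CZ (S : Subgroup G)) ≤ centralizer (zl (S : Subgroup G) P₁ : Set G) :=
    (hQ _ ((hL.zl_le_o2 D.hc S).trans (hL.o2_le S)) (hL.cz.trans (le_normalizer_zl _ _))
      (zl_abel D.hc S hL.loc).1 ((zl_abel D.hc S hL.loc).1.trans (centralizer_le (zl_mono le_sup_left)))).trans h2
  have h3 : zl (S : Subgroup G) P₁ ≤ o2 (P ⊔ CZ (S : Subgroup G)) :=
    le_o2_of_comm (D.data.low P₁ h₁) hL (comm_symm hU)
  exact D.act_of_le hQ hL h₁ h3 ((zl_mono le_sup_left).trans (hL.zl_le_o2 D.hc S)) hl hy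

/-- `⟨V^{C_G(z)}⟩ ≤ V C(U)` for `z ∈ Z(S) - Rp` -/
theorem good_act (hQ : QPV (S : Subgroup G) P H) {z g v : G} (hz : z ∈ zc (S : Subgroup G)) (hzR : z ∉ Rp)
    (hg : g ∈ centralizer ({z} : Set G)) (hv : v ∈ zl (S : Subgroup G) P) :
    g * v * g⁻¹ ∈ zl (S : Subgroup G) P ⊔ centralizer (zl (S : Subgroup G) H : Set G) := by
  have hz1 : z ≠ 1 := fun h => hzR (h ▸ one_mem _)
  have hC : CZ (S : Subgroup G) ≤ centralizer ({z} : Set G) :=
    centralizer_le (Set.singleton_subset_iff.2 hz)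
  have hL : IsLong (S : Subgroup G) (centralizer ({z} : Set G)) :=
    ⟨isLoc_centralizer S (mem_zc.1 hz).2.2 hz1 ((le_CZ S).trans hC), hC⟩
  exact D.act_of_le hQ hL D.par (D.good z hz hzR) (D.good z hz hzR) hg hv

/-- **The main step**: `V^{p₁⁻¹} ≤ V C(U)`. -/
theorem conj_V (hQ : QPV (S : Subgroup G) P H) {P₁ : Subgroup G} (h₁ : IsParS (S : Subgroup G) P₁) (hH : P₁ ≤ H)
    {p₁ : G} (hp : p₁ ∈ P₁) {v : G} (hv : v ∈ zl (S : Subgroup G) P) :
    p₁⁻¹ * v * p₁ ∈ zl (S : Subgroup G) P ⊔ centralizer (zl (S : Subgroup G) H : Set G) := by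
  obtain ⟨r, hr, hrho⟩ := D.exists_rho
  have hUab := (zl_abel D.hc S D.loc).1
  have hpH : p₁ ∈ H := hH hp
  obtain ⟨z₀, hz₀', hz₀1⟩ := D.eps
  obtain ⟨hz₀, hz₀D⟩ := mem_inf.1 hz₀'
  -- `y = p₁ z₀ p₁⁻¹`
  have hyP : p₁ * z₀ * p₁⁻¹ ∈ zl (S : Subgroup G) P₁ :=
    conj_mem_of_mem (le_normalizer_zl _ _ hp) (zc_le_zl _ _ hz₀)
  have h1 := D.W0 hQ h₁ hH hyP (mem_sup_left hr : r ∈ P ⊔ CZ (S : Subgroup G))
  have hVC := D.VN
  obtain ⟨v₁, hv₁, c, hcU, e1⟩ := exists_mul_of_mem_sup hVC h1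
  -- `V ≤ Zp Rp^r`
  obtain ⟨z, hz, f, hf, e2⟩ := D.split_V hr hrho hv₁
  set x := p₁ * z₀ * p₁⁻¹ * f⁻¹ with hx
  -- `x = p₁ z' p₁⁻¹`
  set z' := z₀ * (p₁⁻¹ * f⁻¹ * p₁) with hz'
  have ex : x = p₁ * z' * p₁⁻¹ := by rw [hx, hz']; group
  have hf₁ : p₁⁻¹ * f⁻¹ * p₁ ∈ Rp := D.Rp_conj' (inv_mem hf) hpH
  have hz'R : z' ∉ Rp := by
    intro h0
    have h2 : z₀ ∈ Rp := by
      have h3 := mul_mem h0 (inv_mem hf₁)
      have e3 : z' * (p₁⁻¹ * f⁻¹ * p₁)⁻¹ = z₀ := by rw [hz']; group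
      rwa [e3] at h3
    have h3 : z₀ ∈ Rp ⊓ Dp := mem_inf.2 ⟨h2, hz₀D⟩
    rw [D.RD, mem_bot] at h3
    exact hz₀1 h3
  obtain ⟨p, hpB, hpz⟩ := D.tor z' (mul_mem (mem_sup_left hz₀') (mem_sup_right hf₁))
  have hpzR : p * z' * p⁻¹ ∉ Rp := by
    intro h0
    have h2 := D.Rp_conj' h0 (D.BH hpB)
    have e3 : p⁻¹ * (p * z' * p⁻¹) * p = z' := by group
    rw [e3] at h2
    exact hz'R h2
  -- `r x r⁻¹` centralises `U`
  have hrV : r * f * r⁻¹ ∈ zl (S : Subgroup G) P := conj_mem_of_mem (D.PV hr) (D.RV hf)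
  have hrx : r * x * r⁻¹ ∈ centralizer (zl (S : Subgroup G) H : Set G) := by
    have h3 : r * x * r⁻¹ = z * ((r * f * r⁻¹) * c * (r * f * r⁻¹)⁻¹) := by
      calc r * x * r⁻¹ = (r * (p₁ * z₀ * p₁⁻¹) * r⁻¹) * (r * f * r⁻¹)⁻¹ := by rw [hx]; group
        _ = _ := by rw [e1, e2]; group
    rw [h3]
    exact mul_mem (hUab (D.ZU hz)) ((mem_normalizer_iff.1 (hVC hrV) c).1 hcU)
  have hU'x : ∀ u ∈ zl (S : Subgroup G) H, (r⁻¹ * u * r) * x = x * (r⁻¹ * u * r) := fun u hu => by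
    have h3 := mem_centralizer_iff.1 hrx u hu
    have h4 := congrArg (fun t => r⁻¹ * t * r) h3
    simpa [mul_assoc] using h4
  set K := zl (S : Subgroup G) P ⊔ centralizer (zl (S : Subgroup G) H : Set G) with hK
  -- the elements `g f' g⁻¹`
  have hX : ∀ g : G, g * x = x * g → ∀ f' ∈ Rp, p₁⁻¹ * (g * f' * g⁻¹) * p₁ ∈ K := by
    intro g hg f' hf'
    set g₁ := p₁⁻¹ * g * p₁ with hg₁
    have h3 : g₁ * z' = z' * g₁ := by
      rw [ex] at hg
      have h4 := congrArg (fun t => p₁⁻¹ * t * p₁) hg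
      calc p₁⁻¹ * g * p₁ * z' = p₁⁻¹ * (g * (p₁ * z' * p₁⁻¹)) * p₁ := by group
        _ = p₁⁻¹ * (p₁ * z' * p₁⁻¹ * g) * p₁ := h4
        _ = z' * g₁ := by rw [hg₁]; group
    have h4 : p * g₁ * p⁻¹ ∈ centralizer ({p * z' * p⁻¹} : Set G) := by
      rw [mem_centralizer_singleton_iff]
      calc p * g₁ * p⁻¹ * (p * z' * p⁻¹) = p * (g₁ * z') * p⁻¹ := by group
        _ = p * (z' * g₁) * p⁻¹ := by rw [h3]
        _ = _ := by group
    have hf₂ : p₁⁻¹ * f' * p₁ ∈ Rp := D.Rp_conj' hf' hpH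
    have hf₃ : p * (p₁⁻¹ * f' * p₁) * p⁻¹ ∈ Rp := D.Rp_conj hf₂ (D.BH hpB)
    have h5 := D.good_act hQ hpz hpzR h4 (D.RV hf₃)
    have h6 := conj_mem_of_mem (D.BK (inv_mem hpB)) h5
    have e3 : p⁻¹ * (p * g₁ * p⁻¹ * (p * (p₁⁻¹ * f' * p₁) * p⁻¹) * (p * g₁ * p⁻¹)⁻¹) * p⁻¹⁻¹ =
        p₁⁻¹ * (g * f' * g⁻¹) * p₁ := by
      rw [hg₁]; group
    rwa [e3] at h6
  -- `Zp`
  have hZ : ∀ z₁ ∈ Zp, p₁⁻¹ * z₁ * p₁ ∈ K := fun z₁ hz₁ =>
    mem_sup_right (hUab (D.U_conj hpH (D.ZU hz₁)))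
  have hXm : ∀ {a b : G}, p₁⁻¹ * a * p₁ ∈ K → p₁⁻¹ * b * p₁ ∈ K → p₁⁻¹ * (a * b) * p₁ ∈ K := by
    intro a b ha hb
    have := mul_mem ha hb
    have e7 : p₁⁻¹ * (a * b) * p₁ = p₁⁻¹ * a * p₁ * (p₁⁻¹ * b * p₁) := by group
    rwa [e7]
  have hXi : ∀ {a : G}, p₁⁻¹ * a * p₁ ∈ K → p₁⁻¹ * a⁻¹ * p₁ ∈ K := by
    intro a ha
    have := inv_mem ha
    have e7 : p₁⁻¹ * a⁻¹ * p₁ = (p₁⁻¹ * a * p₁)⁻¹ := by group
    rwa [e7]
  -- `f' ∈ Rp - Dp`
  obtain ⟨f', hf', hef'⟩ := D.exists_Rp 1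
  have hrf'V : r * f' * r⁻¹ ∈ zl (S : Subgroup G) P := conj_mem_of_mem (D.PV hr) (D.RV hf')
  have hrf' : r * f' * r⁻¹ ∉ Zp := by
    intro h0
    have h2 := D.ZV_P h0
    rw [hrho f' (D.RV hf'), hef'] at h2
    have h3 : (1 : F) + 0 = 0 := h2
    rw [add_zero] at h3
    exact one_ne_zero h3
  have hZ' : ∀ z₁ ∈ Zp, p₁⁻¹ * (r⁻¹ * z₁ * r) * p₁ ∈ K := by
    intro z₁ hz₁
    obtain ⟨u, hu, hd⟩ := D.full hrf'V hrf' hz₁
    set d := cm (r * f' * r⁻¹) u * z₁ with hddef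
    have hd' : r⁻¹ * d * r ∈ Dp := by
      have h2 := conj_mem_of_mem (D.PD (inv_mem hr)) hd
      rwa [inv_inv] at h2
    have h5 : r⁻¹ * z₁ * r = (((r⁻¹ * u * r) * f' * (r⁻¹ * u * r)⁻¹) * f'⁻¹) * (r⁻¹ * d * r) := by
      rw [hddef, cm_def]; group
    rw [h5]
    exact hXm (hXm (hX _ (hU'x u hu) f' hf') (hXi (hZ f' (D.RZ hf')))) (hZ _ (D.DZ hd'))
  -- `V = Zp Rp^{r}`; conjugate by `r⁻¹`
  have hv' : r * v * r⁻¹ ∈ zl (S : Subgroup G) P := conj_mem_of_mem (D.PV hr) hv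
  obtain ⟨z₁, hz₁, f₂, hf₂, e4⟩ := D.split_V hr hrho hv'
  have e5 : v = (r⁻¹ * z₁ * r) * f₂ := by
    calc v = r⁻¹ * (r * v * r⁻¹) * r := by group
      _ = _ := by rw [e4]; group
  rw [e5]
  exact hXm (hZ' z₁ hz₁) (hZ f₂ (D.RZ hf₂))

/-- `P₁ ∈ P*(S)`, `P₁ ≤ H`: `P₁` normalises `Zp` -/
theorem conj_Zp (hQ : QPV (S : Subgroup G) P H) {P₁ : Subgroup G} (h₁ : IsParS (S : Subgroup G) P₁) (hH : P₁ ≤ H)
    {p₁ : G} (hp : p₁ ∈ P₁) : MulAut.conj p₁ • Zp = Zp := by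
  have hVC := D.VN
  -- `[U, V] ≤ Zp`
  have hUVZ : ⁅zl (S : Subgroup G) H, zl (S : Subgroup G) P⁆ ≤ Zp := by
    refine commutator_le.2 fun u hu v hv => ?_
    have h1 := D.VU_Z hv hu
    have e1 : ⁅u, v⁆ = (cm v u)⁻¹ := by rw [commutatorElement_def, cm_def]; group
    rw [e1]
    exact inv_mem h1
  have key : ∀ p₁ ∈ P₁, MulAut.conj p₁⁻¹ • Zp ≤ Zp := by
    intro p₁ hp
    have h1 := (conj_le_iff (g := p₁⁻¹)).2 D.ZUV
    rw [Subgroup.smul_sup, conj_eq_of_mem (D.HRp (inv_mem (hH hp)))] at h1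
    refine h1.trans (sup_le ?_ D.RZ)
    have h2 : MulAut.conj p₁⁻¹ • ⁅zl (S : Subgroup G) H, zl (S : Subgroup G) P⁆ ≤
        ⁅zl (S : Subgroup G) H, zl (S : Subgroup G) P⁆ := by
      have h3 : MulAut.conj p₁⁻¹ • ⁅zl (S : Subgroup G) H, zl (S : Subgroup G) P⁆ =
          ⁅MulAut.conj p₁⁻¹ • zl (S : Subgroup G) H, MulAut.conj p₁⁻¹ • zl (S : Subgroup G) P⁆ :=
        map_commutator _ _ _
      rw [h3, conj_eq_of_mem (le_normalizer_zl _ _ (inv_mem (hH hp))), commutator_le]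
      intro u hu w hw
      rw [mem_conj, inv_inv] at hw
      have h4 := D.conj_V hQ h₁ hH hp hw
      have h5 : p₁⁻¹ * (p₁ * w * p₁⁻¹) * p₁ = w := by group
      rw [h5] at h4
      obtain ⟨v, hv, c, hcU, rfl⟩ := exists_mul_of_mem_sup hVC h4
      have h6 : ⁅u, v * c⁆ = ⁅u, v⁆ := by
        have h7 : c * u⁻¹ = u⁻¹ * c := (mem_centralizer_iff.1 hcU _ (inv_mem hu)).symm
        calc ⁅u, v * c⁆ = u * v * (c * u⁻¹) * c⁻¹ * v⁻¹ := by rw [commutatorElement_def]; group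
          _ = ⁅u, v⁆ := by rw [h7, commutatorElement_def]; group
      rw [h6]
      exact commutator_mem_commutator hu hv
    exact h2.trans hUVZ
  refine le_antisymm ?_ ?_
  · have := key p₁⁻¹ (inv_mem hp)
    rwa [inv_inv] at this
  · have h1 := (conj_le_iff (g := p₁)).2 (key p₁ hp)
    rwa [conj_conj, mul_inv_cancel, map_one, one_smul] at h1

variable {M Γ : Type*} [AddCommGroup M] [Group Γ] [DistribMulAction Γ M] {ρ : ↥H →* Γ} {π : G → M}
  (Q : Md (zl (S : Subgroup G) H) (Rr (S : Subgroup G) P H) H ρ π)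

include Q

/-- `H` cannot fix the point `e` -/
theorem not_fix (hle : ∀ h ∈ H, img π (MulAut.conj h • Zp) = img π Zp) : False := by
  have Fr := D.frame Q
  have heP := e_mem π Zp H
  obtain ⟨r, hr, hm⟩ := Fr.exists_mv heP
  obtain ⟨h, hh, rfl⟩ := hr
  rw [hle h hh] at hm
  obtain ⟨v, hv, x, hx, hne⟩ := hm
  exact hne (Fr.triv _ heP v hv x hx)

/-- **(7)** -/
theorem false_of_QP (hQ : QPV (S : Subgroup G) P H)
    (O : Out (Pt π Zp H) (VV ρ π Zp (S : Subgroup G) P) (img π Zp)) : False := by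
  refine D.not_fix Q fun h hh => ?_
  have hle : H ≤ (Subgroup.comap ρ (MulAction.stabilizer Γ (img π Zp))).map H.subtype := by
    have key : ∀ {g : G} (hgH : g ∈ H), img π (MulAut.conj g • Zp) = img π Zp →
        g ∈ (Subgroup.comap ρ (MulAction.stabilizer Γ (img π Zp))).map H.subtype := by
      intro g hgH h1
      refine ⟨⟨g, hgH⟩, ?_, rfl⟩
      change ρ ⟨g, hgH⟩ • img π Zp = img π Zp
      rw [D.smul_img Q hgH D.ZU]
      exact h1
    have hz : ∀ {g : G}, g ∈ H → g ∈ normalizer (zc (S : Subgroup G) : Set G) →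
        g ∈ (Subgroup.comap ρ (MulAction.stabilizer Γ (img π Zp))).map H.subtype := by
      intro g hgH hgN
      refine key hgH ?_
      by_contra hne
      obtain ⟨x, hx, hx1⟩ := D.eps
      obtain ⟨hxz, hxD⟩ := mem_inf.1 hx
      have h2 := O.disj _ (mem_Pt hgH) _ (e_mem π Zp H) hne
      have h3 : π (g * x * g⁻¹) ∈ img π (MulAut.conj g • Zp) ⊓ img π Zp :=
        AddSubgroup.mem_inf.2 ⟨Md.pi_mem (D.conj_mem_conj' (D.zcZ hxz)), Md.pi_mem (D.zcZ (conj_mem_of_mem hgN hxz))⟩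
      rw [h2, AddSubgroup.mem_bot] at h3
      exact D.conj_eps hgH hxD hx1 ((D.pi_eq_zero Q hgH (D.conj_mem_conj' (D.zcZ hxz))).1 h3)
    refine IsLoc.le_of_forall S D.loc (fun g hg => ?_) fun P₁ h₁ hH g hg => ?_
    · obtain ⟨hgH, hgN⟩ := mem_inf.1 hg
      exact hz hgH (normalizer_le_normalizer_zc _ hgN)
    · by_cases hz' : P₁ ≤ normalizer (zc (S : Subgroup G) : Set G)
      · exact hz (hH hg) (hz' hg)
      · refine key (hH hg) ?_
        rw [D.conj_Zp hQ ⟨h₁, hz'⟩ hH hg]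
  obtain ⟨⟨h', hh'⟩, h1, h2⟩ := hle hh
  have h3 : h' = h := h2
  subst h3
  have h4 : ρ ⟨h', hh'⟩ • img π Zp = img π Zp := h1
  rwa [D.smul_img Q hh' D.ZU] at h4

omit Q in
/-- **(f) END**, up to (Q) -/
theorem false_of (hQP : ∀ (M : Type u) [AddCommGroup M] [Finite M] (Γ : Type u) [Group Γ] [DistribMulAction Γ M]
    (ρ : ↥H →* Γ) (π : G → M), Md (zl (S : Subgroup G) H) (Rr (S : Subgroup G) P H) H ρ π →
    Out (Pt π Zp H) (VV ρ π Zp (S : Subgroup G) P) (img π Zp) → QPV (S : Subgroup G) P H) : False := by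
  obtain ⟨M, _, Γ, _, _, ρ, π, Q⟩ := D.exists_md
  have : Finite M := Finite.of_surjective (fun x : ↥(zl (S : Subgroup G) H) => π x) fun m => by
    obtain ⟨x, hx, h⟩ := Q.surj m
    exact ⟨⟨x, hx⟩, h⟩
  rcases (D.frame Q).dichotomy with h | ⟨_, h⟩
  · exact D.many_false Q h
  · have O := h _ (e_mem π Zp H)
    exact D.false_of_QP Q (hQP M Γ ρ π Q O) O

end HypF

end Cfsg.Agent.Omega.NOThreeL.RFEnd

end
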